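import Mathlib
import Cfsg.Agent.S0209
import Cfsg.Agent.S0950
import Cfsg.Agent.Lib.Cores
import Cfsg.Prelude.Def_Local

/-!
# Groups whose Sylow 2-subgroup has a unique involution, and quaternion Sylow subgroups
-/

set_option autoImplicit false

open Cfsg

namespace Cfsg.Agent.Involutions.UniqueInvolution

variable {G : Type*} [Group G] [Finite G]

theorem isPGroup_zpowers {p : ℕ} [Fact p.Prime] {x : G} (hx : ∃ k : ℕ, orderOf x = p ^ k) :
    IsPGroup p (Subgroup.zpowers x) := by
  obtain ⟨k, hk⟩ := hx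
  apply IsPGroup.of_card (n := k)
  rw [Nat.card_zpowers, hk]

/-- A `p`-subgroup is conjugate into a given Sylow subgroup. -/
theorem exists_conj_le {p : ℕ} [Fact p.Prime] (S : Sylow p G) {Q : Subgroup G}
    (hQ : IsPGroup p Q) : ∃ g : G, ∀ a ∈ Q, g * a * g⁻¹ ∈ S := by
  obtain ⟨P, hP⟩ := hQ.exists_le_sylow
  obtain ⟨g, hg⟩ := MulAction.exists_smul_eq G P S
  refine ⟨g, fun a ha => ?_⟩
  rw [← hg]
  have h1 : a ∈ P := hP ha
  exact Subgroup.smul_mem_pointwise_smul a (MulAut.conj g) (P : Subgroup G) h1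

/-- The sup of two cyclic `p`-groups generated by commuting elements is a `p`-group. -/
theorem isPGroup_sup {p : ℕ} [Fact p.Prime] {s t : G} (hs : ∃ k : ℕ, orderOf s = p ^ k)
    (ht : ∃ k : ℕ, orderOf t = p ^ k) (hst : Commute s t) :
    IsPGroup p (Subgroup.zpowers s ⊔ Subgroup.zpowers t : Subgroup G) := by
  apply (isPGroup_zpowers hs).to_sup_of_normal_right' (isPGroup_zpowers ht)
  rw [Subgroup.zpowers_le, Subgroup.mem_normalizer_iff]
  intro h
  have hc : ∀ k : ℤ, s * t ^ k * s⁻¹ = t ^ k := by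
    intro k
    have := (hst.zpow_right k).eq
    rw [this]; group
  constructor
  · rintro ⟨k, rfl⟩
    exact ⟨k, (hc k).symm⟩
  · rintro ⟨k, hk⟩
    refine ⟨k, ?_⟩
    have h1 : t ^ k = s * h * s⁻¹ := hk
    have h2 : h = s⁻¹ * t ^ k * s := by rw [h1]; group
    show t ^ k = h
    rw [h2]
    have := (hst.zpow_right k).eq
    calc t ^ k = s⁻¹ * (s * t ^ k) := by group
      _ = s⁻¹ * (t ^ k * s) := by rw [this]
      _ = s⁻¹ * t ^ k * s := by group

/-- If a Sylow 2-subgroup has only one involution then two commuting involutions are equal. -/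
theorem eq_of_commute (S : Sylow 2 G) {z : G} (hz : ∀ t ∈ S, orderOf t = 2 → t = z)
    {s t : G} (hs : orderOf s = 2) (ht : orderOf t = 2) (hst : Commute s t) : s = t := by
  have h := isPGroup_sup (p := 2) (s := s) (t := t) ⟨1, by rw [hs]; rfl⟩ ⟨1, by rw [ht]; rfl⟩ hst
  obtain ⟨g, hg⟩ := exists_conj_le S h
  have hs' := hg s (Subgroup.mem_sup_left (Subgroup.mem_zpowers s))
  have ht' := hg t (Subgroup.mem_sup_right (Subgroup.mem_zpowers t))
  have ho : ∀ a : G, orderOf (g * a * g⁻¹) = orderOf a := fun a => by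
    have := orderOf_injective (MulAut.conj g).toMonoidHom (MulAut.conj g).injective a
    simpa using this
  have h1 := hz _ hs' (by rw [ho, hs])
  have h2 := hz _ ht' (by rw [ho, ht])
  have h3 : g * s * g⁻¹ = g * t * g⁻¹ := by rw [h1, h2]
  simpa using h3

/-- If a Sylow 2-subgroup has only one involution then the product of two involutions has odd
order. -/
theorem odd_orderOf_mul (S : Sylow 2 G) {z : G} (hz : ∀ t ∈ S, orderOf t = 2 → t = z)
    {s t : G} (hs : orderOf s = 2) (ht : orderOf t = 2) : Odd (orderOf (s * t)) := by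
  by_contra hne
  rw [Nat.not_odd_iff_even] at hne
  obtain ⟨h1, h2, h3⟩ := Cfsg.Agent.S0209.result s t hs ht hne
  have e1 := eq_of_commute S hz h1 hs h2
  have e2 := eq_of_commute S hz h1 ht h3
  have e3 : s = t := e1.symm.trans e2
  subst e3
  have : s * s = 1 := by rw [← sq, ← hs, pow_orderOf_eq_one]
  rw [this, orderOf_one] at hne
  exact absurd hne (by decide)

/-- If a Sylow 2-subgroup has only one involution `z` then all involutions are conjugate to `z`. -/
theorem isConj_of_orderOf_two (S : Sylow 2 G) {z : G} (hz : ∀ t ∈ S, orderOf t = 2 → t = z)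
    {t : G} (ht : orderOf t = 2) : IsConj t z := by
  obtain ⟨g, hg⟩ := exists_conj_le S (isPGroup_zpowers (p := 2) (x := t) ⟨1, by rw [ht]; rfl⟩)
  have ht' := hg t (Subgroup.mem_zpowers t)
  have ho : ∀ a : G, orderOf (g * a * g⁻¹) = orderOf a := fun a => by
    have := orderOf_injective (MulAut.conj g).toMonoidHom (MulAut.conj g).injective a
    simpa using this
  have h1 := hz _ ht' (by rw [ho, ht])
  exact isConj_iff.2 ⟨g, h1⟩

/-! ### Quaternion Sylow subgroups of order eight -/

theorem q8_commute : ∀ x y : QuaternionGroup 2, x * x ≠ 1 → x * y = y * x →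
    (y = 1 ∨ y = x ∨ y = x * x ∨ y = x * x * x) := by
  decide +kernel

theorem q8_sq : ∀ x y : QuaternionGroup 2, x * x ≠ 1 → y * y ≠ 1 → x * x = y * y := by
  decide +kernel

theorem q8_inv : ∀ x : QuaternionGroup 2, ∃ y : QuaternionGroup 2, y * x = x⁻¹ * y := by
  decide +kernel

theorem q8_exists : ∃ x : QuaternionGroup 2, x * x ≠ 1 := by
  decide +kernel

section transport

variable {S : Subgroup G} (e : S ≃* QuaternionGroup 2)
include e

theorem sq_ne_one {x : G} (hx : orderOf x = 4) : x * x ≠ 1 := by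
  intro h
  have : orderOf x ∣ 2 := orderOf_dvd_of_pow_eq_one (by rw [sq]; exact h)
  rw [hx] at this
  exact absurd this (by decide)

theorem e_sq_ne_one {x : G} (hxS : x ∈ S) (hx : x * x ≠ 1) :
    e ⟨x, hxS⟩ * e ⟨x, hxS⟩ ≠ 1 := by
  intro h
  rw [← map_mul, ← map_one e] at h
  exact hx (by simpa using congrArg Subtype.val (e.injective h))

theorem exists_orderOf_four : ∃ x ∈ S, orderOf x = 4 := by
  obtain ⟨q, hq⟩ := q8_exists
  obtain ⟨⟨x, hx⟩, rfl⟩ := e.surjective q
  refine ⟨x, hx, Cfsg.Agent.S0950.orderOf_eq_four e hx ?_⟩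
  intro h
  apply hq
  rw [← map_mul, ← map_one e]
  congr 1
  ext
  exact h

/-- The elements of `S` commuting with an element `x` of order four are the powers of `x`. -/
theorem mem_zpowers_of_commute {x y : G} (hxS : x ∈ S) (hx : orderOf x = 4) (hyS : y ∈ S)
    (hxy : Commute x y) : y ∈ Subgroup.zpowers x := by
  have h := q8_commute (e ⟨x, hxS⟩) (e ⟨y, hyS⟩) (e_sq_ne_one e hxS (sq_ne_one e hx)) (by
    rw [← map_mul, ← map_mul]
    congr 1
    ext
    exact hxy.eq)
  rcases h with h | h | h | h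
  · rw [← map_one e] at h
    have : y = 1 := by simpa using congrArg Subtype.val (e.injective h)
    rw [this]; exact Subgroup.one_mem _
  · have : y = x := by simpa using congrArg Subtype.val (e.injective h)
    rw [this]; exact Subgroup.mem_zpowers x
  · rw [← map_mul] at h
    have : y = x * x := by simpa using congrArg Subtype.val (e.injective h)
    rw [this]; exact Subgroup.mul_mem _ (Subgroup.mem_zpowers x) (Subgroup.mem_zpowers x)
  · rw [← map_mul, ← map_mul] at h
    have : y = x * x * x := by simpa using congrArg Subtype.val (e.injective h)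
    rw [this]
    exact Subgroup.mul_mem _ (Subgroup.mul_mem _ (Subgroup.mem_zpowers x) (Subgroup.mem_zpowers x))
      (Subgroup.mem_zpowers x)

/-- Some element of `S` inverts `x`. -/
theorem exists_inverting {x : G} (hxS : x ∈ S) : ∃ y ∈ S, y * x * y⁻¹ = x⁻¹ := by
  obtain ⟨q, hq⟩ := q8_inv (e ⟨x, hxS⟩)
  obtain ⟨⟨y, hy⟩, rfl⟩ := e.surjective q
  refine ⟨y, hy, ?_⟩
  rw [← map_mul, ← map_inv, ← map_mul] at hq
  have h := congrArg Subtype.val (e.injective hq)
  have h' : y * x = x⁻¹ * y := by simpa using h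
  rw [h']; group

/-- The unique involution of `S` is the square of every element of order four. -/
theorem eq_sq_of_orderOf_two {x t : G} (hxS : x ∈ S) (hx : orderOf x = 4) (htS : t ∈ S)
    (ht : orderOf t = 2) : t = x ^ 2 := by
  apply Cfsg.Agent.S0950.sq_one_cases e htS (S.pow_mem hxS 2)
  · rw [← sq, ← ht, pow_orderOf_eq_one]
  · rw [← pow_add, show 2 + 2 = orderOf x from hx.symm, pow_orderOf_eq_one]
  · rintro rfl; simp at ht
  · intro h
    exact sq_ne_one e hx (by rw [← sq]; exact h)

end transport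

section sylow

variable (S : Sylow 2 G) (e : (S : Subgroup G) ≃* QuaternionGroup 2)
include e

/-- The centralizer of an element `x` of order four of a quaternion Sylow subgroup is the direct
product of `⟨x⟩` and a group of odd order. -/
theorem centralizer_structure {x : G} (hx : orderOf x = 4) :
    Nat.card (Subgroup.centralizer ({x} : Set G)) = 4 * Nat.card (centralizerPPrimeCore 2 x) ∧
    (∀ y : G, Commute x y → Odd (orderOf y) → y ∈ centralizerPPrimeCore 2 x) := by
  set C : Subgroup G := Subgroup.centralizer ({x} : Set G) with hC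
  have hxC : x ∈ C := Subgroup.mem_centralizer_singleton_iff.2 rfl
  set x' : C := ⟨x, hxC⟩ with hx'
  have hox' : orderOf x' = 4 := by
    rw [← hx]; exact (Subgroup.orderOf_coe x').symm
  have hcen : ∀ c : C, Commute x' c := by
    intro c
    have := Subgroup.mem_centralizer_singleton_iff.1 c.2
    exact Subtype.ext this.symm
  -- the Sylow subgroup
  have hZp : IsPGroup 2 (Subgroup.zpowers x') := isPGroup_zpowers ⟨2, by rw [hox']; rfl⟩
  have hmax : ∀ {Q : Subgroup C}, IsPGroup 2 Q → Subgroup.zpowers x' ≤ Q →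
      Q = Subgroup.zpowers x' := by
    intro Q hQ hle
    apply le_antisymm _ hle
    intro q hq
    have hQ' : IsPGroup 2 (Q.map C.subtype) := hQ.map _
    obtain ⟨g, hg⟩ := exists_conj_le S hQ'
    have h1 : g * x * g⁻¹ ∈ S := hg x ⟨x', hle (Subgroup.mem_zpowers x'), rfl⟩
    have h2 : g * q * g⁻¹ ∈ S := hg q ⟨q, hq, rfl⟩
    have ho : orderOf (g * x * g⁻¹) = 4 := by
      have := orderOf_injective (MulAut.conj g).toMonoidHom (MulAut.conj g).injective x
      rw [← hx, ← this]; rfl
    have hcomm : Commute (g * x * g⁻¹) (g * q * g⁻¹) := by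
      have h3 : Commute x (q : G) := (Subgroup.mem_centralizer_singleton_iff.1 q.2).symm
      have := h3.map (MulAut.conj g).toMonoidHom
      simpa using this
    obtain ⟨k, hk⟩ := mem_zpowers_of_commute e h1 ho h2 hcomm
    refine ⟨k, Subtype.ext ?_⟩
    have h4 : (g * x * g⁻¹) ^ k = g * q * g⁻¹ := hk
    rw [conj_zpow] at h4
    have h5 : x ^ k = (q : G) := by simpa using h4
    simpa using h5
  let P : Sylow 2 C := ⟨Subgroup.zpowers x', hZp, hmax⟩
  have hP : Subgroup.normalizer (P : Set C) ≤ Subgroup.centralizer (P : Set C) := by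
    intro c _
    rw [Subgroup.mem_centralizer_iff]
    rintro _ ⟨k, rfl⟩
    exact ((hcen c).zpow_left k).eq
  have hcompl := MonoidHom.ker_transferSylow_isComplement' P hP
  have hodd := MonoidHom.not_dvd_card_ker_transferSylow P hP
  set W : Subgroup C := (MonoidHom.transferSylow P hP).ker with hW
  have hcardP : Nat.card P = 4 := by
    have : Nat.card (Subgroup.zpowers x') = 4 := by rw [Nat.card_zpowers, hox']
    exact this
  have hcard : Nat.card C = 4 * Nat.card W := by
    have := hcompl.card_mul_card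
    have h4 : Nat.card (P : Subgroup C) = 4 := hcardP
    rw [← this, h4, mul_comm]
  have hcop : (Nat.card W).Coprime 2 := by
    rw [Nat.coprime_comm, Nat.Prime.coprime_iff_not_dvd Nat.prime_two]
    exact hodd
  have hWle : W ≤ pPrimeCore 2 C := Cfsg.Agent.Lib.Cores.le_pPrimeCore inferInstance hcop
  have hWeq : W = pPrimeCore 2 C := by
    apply Subgroup.eq_of_le_of_card_ge hWle
    have h1 : Nat.card (pPrimeCore 2 C) ∣ 4 * Nat.card W := by
      rw [← hcard]; exact Subgroup.card_subgroup_dvd_card _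
    have h2 : (Nat.card (pPrimeCore 2 C)).Coprime 4 := by
      have := Cfsg.Agent.Lib.Cores.pPrimeCore_coprime (G := C) 2
      exact Nat.Coprime.pow_right 2 this
    exact Nat.le_of_dvd Nat.card_pos (h2.dvd_of_dvd_mul_left h1)
  have hcard2 : Nat.card (centralizerPPrimeCore 2 x) = Nat.card W := by
    rw [hWeq]
    exact Nat.card_congr ((pPrimeCore 2 C).equivMapOfInjective
      _ (Subgroup.subtype_injective _)).toEquiv.symm
  refine ⟨by rw [hcard2, hcard], ?_⟩
  intro y hxy hy
  have hyC : y ∈ C := Subgroup.mem_centralizer_singleton_iff.2 hxy.symm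
  refine ⟨⟨y, hyC⟩, ?_, rfl⟩
  have hyo : Odd (orderOf (⟨y, hyC⟩ : C)) := by
    rw [← Subgroup.orderOf_coe]; exact hy
  show (⟨y, hyC⟩ : C) ∈ pPrimeCore 2 C
  rw [← hWeq, hW, MonoidHom.mem_ker]
  have h1 : orderOf (MonoidHom.transferSylow P hP ⟨y, hyC⟩) ∣ orderOf (⟨y, hyC⟩ : C) :=
    orderOf_map_dvd _ _
  have h2 : orderOf (MonoidHom.transferSylow P hP ⟨y, hyC⟩) ∣ 4 := by
    rw [← hcardP]; exact orderOf_dvd_natCard _
  have h3 : (orderOf (MonoidHom.transferSylow P hP ⟨y, hyC⟩)).Coprime 4 := by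
    apply Nat.Coprime.coprime_dvd_left h1
    have h5 : (orderOf (⟨y, hyC⟩ : C)).Coprime (2 ^ 2) := by
      apply Nat.Coprime.pow_right 2
      rwa [Nat.coprime_comm, Nat.coprime_two_left]
    exact h5
  exact orderOf_eq_one_iff.1 (Nat.Coprime.eq_one_of_dvd h3 h2)

/-- Fusion: if `O(G) = 1` and `S ≠ G` then all elements of order four of `S` are conjugate. -/
theorem isConj_of_orderOf_four (hO : ∀ N : Subgroup G, N.Normal → Odd (Nat.card N) → N = ⊥)
    (hS : (S : Subgroup G) ≠ ⊤) {x y : G} (hxS : x ∈ S) (hyS : y ∈ S) (hx : orderOf x = 4)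
    (hy : orderOf y = 4) : IsConj x y := by
  have hnc : ∀ N : Subgroup G, N.Normal → ¬ Subgroup.IsComplement' N (S : Subgroup G) := by
    intro N hN hc
    have h1 : Odd (Nat.card N) := by
      have h2 : ¬ 2 ∣ (S : Subgroup G).index := S.not_dvd_index
      rw [hc.index_eq_card] at h2
      rwa [← Nat.not_even_iff_odd, even_iff_two_dvd]
    have h3 := hO N hN h1
    subst h3
    apply hS
    have := hc.sup_eq_top
    rwa [bot_sup_eq] at this
  have hA4 : Nat.card (Subgroup.zpowers x) = 4 := by rw [Nat.card_zpowers, hx]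
  have hB4 : Nat.card (Subgroup.zpowers y) = 4 := by rw [Nat.card_zpowers, hy]
  obtain ⟨n, hn, hB⟩ := Cfsg.Agent.S0950.result S e hnc (Subgroup.zpowers x) (Subgroup.zpowers y)
    (by rwa [Subgroup.zpowers_le]) (by rwa [Subgroup.zpowers_le]) hA4 hB4
  have h1 : n * x * n⁻¹ ∈ Subgroup.zpowers y := by
    rw [hB]
    exact ⟨x, Subgroup.mem_zpowers x, rfl⟩
  have ho : orderOf (n * x * n⁻¹) = 4 := by
    have := orderOf_injective (MulAut.conj n).toMonoidHom (MulAut.conj n).injective x
    rw [← hx, ← this]; rfl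
  obtain ⟨k, hk⟩ := mem_powers_iff_mem_zpowers.mpr h1
  have hk : y ^ k = n * x * n⁻¹ := hk
  have hk' : y ^ (k % 4) = n * x * n⁻¹ := by
    rw [← hy, pow_mod_orderOf]; exact hk
  have hlt4 : k % 4 < 4 := Nat.mod_lt _ (by norm_num)
  have hy4 : y ^ 4 = 1 := by rw [← hy, pow_orderOf_eq_one]
  have hconj : IsConj x (n * x * n⁻¹) := isConj_iff.2 ⟨n, rfl⟩
  generalize k % 4 = j at hk' hlt4
  interval_cases j
  · rw [← hk'] at ho; simp at ho
  · rw [pow_one] at hk'
    rw [hk']; exact hconj
  · exfalso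
    rw [← hk'] at ho
    have : orderOf (y ^ 2) ∣ 2 := orderOf_dvd_of_pow_eq_one (by rw [← pow_mul]; exact hy4)
    rw [ho] at this
    exact absurd this (by decide)
  · obtain ⟨w, hwS, hw⟩ := exists_inverting e hyS
    have h3 : y ^ 3 = y⁻¹ := by
      apply eq_inv_of_mul_eq_one_left
      rw [← pow_succ]; exact hy4
    have h4 : IsConj y (n * x * n⁻¹) := by
      rw [← hk', h3, ← hw]
      exact isConj_iff.2 ⟨w, rfl⟩
    exact hconj.trans h4.symm

end sylow

end Cfsg.Agent.Involutions.UniqueInvolution
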