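import Mathlib.GroupTheory.Rank
import Mathlib.GroupTheory.OrderOfElement
import Mathlib.GroupTheory.GroupAction.Quotient
import Mathlib.GroupTheory.GroupAction.ConjAct
import Mathlib.Tactic

/-!
# Counting conjugates and pairs of involutions
-/

set_option autoImplicit false

namespace Cfsg.Agent.Involutions.PairCount

variable {G : Type*} [Group G]

/-- Orbit-stabilizer for conjugation: |class of t| * |C(t)| = |G|. -/
theorem card_class_mul_card_centralizer (t : G) :
    Nat.card {u : G // IsConj t u} * Nat.card (Subgroup.centralizer ({t} : Set G)) = Nat.card G := by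
  rw [Subgroup.nat_card_centralizer_nat_card_stabilizer]
  have h := Nat.card_congr (MulAction.orbitProdStabilizerEquivGroup (ConjAct G) t)
  rw [Nat.card_prod] at h
  have h2 : Nat.card (MulAction.orbit (ConjAct G) t) = Nat.card {u : G // IsConj t u} := by
    apply Nat.card_congr
    apply Equiv.subtypeEquivRight
    intro u
    rw [ConjAct.mem_orbit_conjAct, isConj_comm]
  rw [← h2, h]
  exact Nat.card_congr ConjAct.ofConjAct.toEquiv

theorem swap_of_conj_eq_inv {u x : G} (h : u * x * u⁻¹ = x⁻¹) : u * x = x⁻¹ * u := by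
  rw [← h]; group

theorem swap_inv_of_conj_eq_inv {u x : G} (h : u * x * u⁻¹ = x⁻¹) : u * x⁻¹ = x * u := by
  have h' : u * x⁻¹ * u⁻¹ = x := by
    have := congrArg (fun y => y⁻¹) h
    simpa [mul_assoc] using this
  calc u * x⁻¹ = (u * x⁻¹ * u⁻¹) * u := by group
    _ = x * u := by rw [h']

/-- The elements inverting `x` number at most `|C(x)|`. -/
theorem card_inverting_le [Finite G] (x : G) :
    Nat.card {u : G // u * x * u⁻¹ = x⁻¹} ≤ Nat.card (Subgroup.centralizer ({x} : Set G)) := by
  rcases isEmpty_or_nonempty {u : G // u * x * u⁻¹ = x⁻¹} with h | ⟨⟨u₀, hu₀⟩⟩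
  · rw [Nat.card_of_isEmpty]; exact Nat.zero_le _
  · refine Nat.card_le_card_of_injective
      (fun u => (⟨u₀⁻¹ * u.1, ?_⟩ : Subgroup.centralizer ({x} : Set G))) ?_
    · rw [Subgroup.mem_centralizer_singleton_iff]
      have h1 : x * u₀⁻¹ = u₀⁻¹ * x⁻¹ := by
        have this := (swap_of_conj_eq_inv hu₀).symm
        have h2 : u₀⁻¹ * (x⁻¹ * u₀) * u₀⁻¹ = u₀⁻¹ * (u₀ * x) * u₀⁻¹ := by rw [this]
        simpa [mul_assoc] using h2.symm
      have h3 : (u : G) * x = x⁻¹ * u := swap_of_conj_eq_inv u.2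
      rw [mul_assoc, h3, ← mul_assoc, ← h1, mul_assoc]
    · intro u v huv
      simpa [Subtype.ext_iff] using huv

/-- In a product `u * v` of elements with `u * u = 1`, `v * v = 1`, `u` inverts `u * v`. -/
theorem mul_inverts {u v : G} (hu : u * u = 1) (hv : v * v = 1) :
    u * (u * v) * u⁻¹ = (u * v)⁻¹ := by
  have hu' : u⁻¹ = u := inv_eq_of_mul_eq_one_left hu
  have hv' : v⁻¹ = v := inv_eq_of_mul_eq_one_left hv
  rw [mul_inv_rev, hu', hv', ← mul_assoc, hu, one_mul]

/-- Number of pairs with given product: at most `|C(x)|`. -/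
theorem card_pairs_mul_eq_le [Finite G] (x : G) (P : G → Prop) (hP : ∀ u, P u → u * u = 1) :
    Nat.card {p : G × G // P p.1 ∧ P p.2 ∧ p.1 * p.2 = x} ≤
      Nat.card (Subgroup.centralizer ({x} : Set G)) := by
  refine le_trans (Nat.card_le_card_of_injective
    (fun p => (⟨p.1.1, ?_⟩ : {u : G // u * x * u⁻¹ = x⁻¹})) ?_) (card_inverting_le x)
  · obtain ⟨⟨u, v⟩, hu, hv, huv⟩ := p
    simp only at hu hv huv ⊢
    rw [← huv]
    exact mul_inverts (hP _ hu) (hP _ hv)
  · rintro ⟨⟨u, v⟩, hu, hv, huv⟩ ⟨⟨u', v'⟩, hu', hv', huv'⟩ h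
    simp only [Subtype.mk.injEq] at h huv huv'
    subst h
    have : v = v' := mul_left_cancel (huv.trans huv'.symm)
    subst this
    rfl

theorem mul_self_of_orderOf_two {u : G} (hu : orderOf u = 2) : u * u = 1 := by
  rw [← pow_two, ← hu, pow_orderOf_eq_one]

/-- Two involutions whose product has odd order are conjugate. -/
theorem isConj_of_odd_orderOf_mul {u v : G} (hu : u * u = 1) (hv : v * v = 1)
    (h : Odd (orderOf (u * v))) : IsConj u v := by
  obtain ⟨k, hk⟩ := h
  have hinv := mul_inverts hu hv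
  have h1 : (u * v) ^ (2 * k + 1) = 1 := by rw [← hk, pow_orderOf_eq_one]
  rw [isConj_iff]
  refine ⟨(u * v) ^ k, ?_⟩
  have h2 : u * (u * v) ^ k * u⁻¹ = ((u * v) ^ k)⁻¹ := by
    rw [← conj_pow, hinv, inv_pow]
  rw [mul_assoc, swap_inv_of_conj_eq_inv h2, ← mul_assoc, ← pow_add, ← two_mul]
  have h5 : (u * v) ^ (2 * k) = (u * v)⁻¹ := by
    rw [pow_succ] at h1
    exact eq_inv_of_mul_eq_one_left h1
  rw [h5, mul_inv_rev, inv_mul_cancel_right]
  exact inv_eq_of_mul_eq_one_left hv

/-- The unique involution in a finite cyclic group `⟨w⟩` of even order is `w ^ (|w| / 2)`. -/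
theorem mem_zpowers_iff_pow_half [Finite G] {w z : G} (hw : Even (orderOf w))
    (hz : orderOf z = 2) : z ∈ Subgroup.zpowers w ↔ w ^ (orderOf w / 2) = z := by
  classical
  constructor
  · intro h
    rw [← mem_powers_iff_mem_zpowers, mem_powers_iff_mem_range_orderOf] at h
    simp only [Finset.mem_image, Finset.mem_range] at h
    obtain ⟨k, hk, rfl⟩ := h
    have hk0 : k ≠ 0 := by
      rintro rfl
      simp at hz
    have h2 : (w ^ k) ^ 2 = 1 := by rw [← hz, pow_orderOf_eq_one]
    rw [← pow_mul] at h2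
    have h3 := orderOf_dvd_of_pow_eq_one h2
    obtain ⟨m, hm⟩ := hw
    obtain ⟨c, hc⟩ := h3
    have hmpos : 0 < orderOf w := orderOf_pos w
    have : c = 1 := by
      rcases c with _ | _ | c
      · omega
      · rfl
      · exfalso
        have : orderOf w * (c + 1 + 1) ≥ orderOf w * 2 := Nat.mul_le_mul_left _ (by omega)
        omega
    subst this
    congr 1
    omega
  · rintro rfl
    exact Subgroup.npow_mem_zpowers w _

theorem orderOf_pow_half [Finite G] {w : G} (hw : Even (orderOf w)) :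
    orderOf (w ^ (orderOf w / 2)) = 2 := by
  have hpos : 0 < orderOf w := orderOf_pos w
  obtain ⟨m, hm⟩ := hw
  have h : orderOf w / 2 = m := by omega
  rw [h, orderOf_pow' _ (by omega), hm]
  have : (m + m).gcd m = m := by simp
  rw [this]
  have hm0 : 0 < m := by omega
  rw [← two_mul, Nat.mul_div_cancel _ hm0]

end Cfsg.Agent.Involutions.PairCount
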