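import Cfsg.Agent.Involutions.RigidFusion

/-!
Automorphisms fixing a Sylow `p`-subgroup `S` of `G` pointwise (Glauberman).
If `C` is a group of such automorphisms and `φ` lies in the derived subgroup of `C` and has
`p`-power order, then `φ` is conjugate in `G ⋊ ⟨φ⟩` to no other element of `S × ⟨φ⟩`.
-/

set_option autoImplicit false

namespace Cfsg.Agent.Involutions.RigidAut

open scoped IsMulCommutative in
/-- The homomorphism `c ↦ c ^ M` trick: an element of the derived group of a group `C` of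
automorphisms fixing `S` pointwise, that moves `g` inside `g S`, fixes `g`, provided `g` conjugates
some `p`-centric subgroup `Q ≤ S` into `S`. -/
theorem apply_eq_of_mem_commutator {G : Type*} [Group G] [Finite G] {p : ℕ} [hp : Fact p.Prime]
    (S : Sylow p G) (C : Subgroup (MulAut G)) (hC : ∀ φ ∈ C, ∀ s ∈ S, φ s = s)
    (Q : Subgroup G) (hQS : Q ≤ S) (g : G) (hgQ : ∀ q ∈ Q, g * q * g⁻¹ ∈ S)
    (hQ : ∀ e : G, (∀ q ∈ Q, e * q = q * e) → (∃ n : ℕ, e ^ p ^ n = 1) → e ∈ Q)
    (φ : C) (hφ : φ ∈ commutator C) (hs : g⁻¹ * (φ : MulAut G) g ∈ S) :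
    (φ : MulAut G) g = g := by
  classical
  -- the centralizer of `Q`
  set D : Subgroup G := Subgroup.centralizer (Q : Set G) with hD
  have hmemD : ∀ d, d ∈ D ↔ ∀ q ∈ Q, d * q = q * d := by
    intro d
    rw [hD, Subgroup.mem_centralizer_iff]
    exact ⟨fun h q hq => (h q hq).symm, fun h q hq => (h q hq).symm⟩
  have hδ : ∀ a : C, g⁻¹ * (a : MulAut G) g ∈ D := by
    intro a
    rw [hmemD]
    intro q hq
    have h1 := hC a a.2 _ (hgQ q hq)
    rw [map_mul, map_mul, map_inv, hC a a.2 q (hQS hq)] at h1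
    -- a g * q * (a g)⁻¹ = g * q * g⁻¹
    calc g⁻¹ * (a : MulAut G) g * q
        = g⁻¹ * ((a : MulAut G) g * q * ((a : MulAut G) g)⁻¹) * (a : MulAut G) g := by group
      _ = g⁻¹ * (g * q * g⁻¹) * (a : MulAut G) g := by rw [h1]
      _ = q * (g⁻¹ * (a : MulAut G) g) := by group
  have hact : ∀ a : C, ∀ d ∈ D, (a : MulAut G) d ∈ D := by
    intro a d hd
    rw [hmemD] at hd ⊢
    intro q hq
    have h1 := congrArg (a : MulAut G) (hd q hq)
    rwa [map_mul, map_mul, hC a a.2 q (hQS hq)] at h1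
  -- the power homomorphism
  let m₁ := (Subgroup.center D).index
  let m₂ := ordCompl[p] (Nat.card D)
  let Φ : D →* Subgroup.center D :=
    (powMonoidHom m₂).comp (MonoidHom.transferCenterPow D)
  have hΦ : ∀ d : D, ((Φ d : D) : G) = (d : G) ^ (m₁ * m₂) := by
    intro d
    have h1 : (Φ d : D) = d ^ (m₁ * m₂) := by
      change (((MonoidHom.transferCenterPow D d) ^ m₂ : Subgroup.center D) : D) = _
      rw [Subgroup.coe_pow, MonoidHom.transferCenterPow_apply, ← pow_mul]
    rw [h1, Subgroup.coe_pow]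
  have hΦQ : ∀ d : D, ((Φ d : D) : G) ∈ Q := by
    intro d
    apply hQ
    · exact (hmemD _).mp (Φ d : D).2
    · refine ⟨(Nat.card D).factorization p, ?_⟩
      rw [hΦ, ← pow_mul, mul_assoc]
      have h1 : m₂ * p ^ (Nat.card D).factorization p = Nat.card D := by
        rw [mul_comm]; exact Nat.ordProj_mul_ordCompl_eq_self _ _
      rw [h1, mul_comm, pow_mul, ← Subgroup.coe_pow, pow_card_eq_one']
      simp
  -- the homomorphism on `C`
  let F : C →* Subgroup.center D :=
    MonoidHom.mk' (fun a => Φ ⟨g⁻¹ * (a : MulAut G) g, hδ a⟩) (by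
      intro a b
      have h1 : (⟨g⁻¹ * ((a * b : C) : MulAut G) g, hδ (a * b)⟩ : D) =
          ⟨g⁻¹ * (a : MulAut G) g, hδ a⟩ *
            ⟨(a : MulAut G) (g⁻¹ * (b : MulAut G) g), hact a _ (hδ b)⟩ := by
        apply Subtype.ext
        simp [mul_assoc]
      have h2 : Φ ⟨(a : MulAut G) (g⁻¹ * (b : MulAut G) g), hact a _ (hδ b)⟩ =
          Φ ⟨g⁻¹ * (b : MulAut G) g, hδ b⟩ := by
        apply Subtype.ext
        apply Subtype.ext
        have h3 := hΦQ ⟨g⁻¹ * (b : MulAut G) g, hδ b⟩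
        have h4 := hC a a.2 _ (hQS h3)
        rw [hΦ] at h4 ⊢
        rw [hΦ]
        rw [← map_pow]
        exact h4
      rw [h1, map_mul, h2])
  have hF : F φ = 1 := by
    have := Abelianization.commutator_subset_ker F hφ
    rwa [MonoidHom.mem_ker] at this
  have hs1 : (g⁻¹ * (φ : MulAut G) g) ^ (m₁ * m₂) = 1 := by
    have h1 : ((F φ : D) : G) = (g⁻¹ * (φ : MulAut G) g) ^ (m₁ * m₂) := hΦ _
    rw [← h1, hF]
    simp
  -- `m₁` and `m₂` are prime to `p`
  have hm₁ : ¬ p ∣ m₁ := by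
    let E : Sylow p D := default
    have hE : (E : Subgroup D) ≤ Subgroup.center D := by
      intro e he
      obtain ⟨n, hn⟩ := E.isPGroup' ⟨e, he⟩
      have hn' : (e : G) ^ p ^ n = 1 := by
        have := congrArg (fun z : (E : Subgroup D) => ((z : D) : G)) hn
        simpa using this
      have heQ : (e : G) ∈ Q := hQ e ((hmemD _).mp e.2) ⟨n, hn'⟩
      rw [Subgroup.mem_center_iff]
      intro d
      apply Subtype.ext
      exact (hmemD _).mp d.2 _ heQ
    intro h
    exact E.not_dvd_index (h.trans (Subgroup.index_dvd_of_le hE))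
  have hm₂ : ¬ p ∣ m₂ := Nat.not_dvd_ordCompl hp.out Nat.card_pos.ne'
  have hm : Nat.Coprime p (m₁ * m₂) := by
    rw [hp.out.coprime_iff_not_dvd]
    exact hp.out.not_dvd_mul hm₁ hm₂
  have hone : g⁻¹ * (φ : MulAut G) g = 1 := by
    obtain ⟨n, hn⟩ := S.isPGroup' ⟨_, hs⟩
    have hn' : (g⁻¹ * (φ : MulAut G) g) ^ p ^ n = 1 := by
      have := congrArg (fun z : (S : Subgroup G) => (z : G)) hn
      simpa using this
    have h1 : orderOf (g⁻¹ * (φ : MulAut G) g) ∣ 1 := by
      have h2 := Nat.dvd_gcd (orderOf_dvd_of_pow_eq_one hn') (orderOf_dvd_of_pow_eq_one hs1)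
      rwa [Nat.Coprime.gcd_eq_one (Nat.Coprime.pow_left n hm)] at h2
    rwa [Nat.dvd_one, orderOf_eq_one_iff] at h1
  rw [inv_mul_eq_one] at hone
  exact hone.symm

section Semidirect

variable {G : Type*} [Group G] [Finite G]

/-- The semidirect product of `G` and the cyclic group generated by an automorphism. -/
abbrev SD (φ : MulAut G) : Type _ := SemidirectProduct G (Subgroup.zpowers φ) (Subgroup.zpowers φ).subtype

/-- The automorphism as an element of the semidirect product. -/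
abbrev sx (φ : MulAut G) : SD φ := SemidirectProduct.inr ⟨φ, Subgroup.mem_zpowers φ⟩

theorem finite_SD (φ : MulAut G) : Finite (SD φ) :=
  Finite.of_equiv _ SemidirectProduct.equivProd.symm

/-- For `S` fixed pointwise by `φ`, the subgroup `S × ⟨φ⟩` of `G ⋊ ⟨φ⟩`. -/
def prodSub (S : Subgroup G) (φ : MulAut G) (hS : ∀ s ∈ S, φ s = s) : Subgroup (SD φ) where
  carrier := {y | y.left ∈ S}
  mul_mem' := by
    intro a b ha hb
    have h1 : (a.right : MulAut G) b.left = b.left := by
      have h2 : Subgroup.zpowers φ ≤ MulAction.stabilizer (MulAut G) b.left := by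
        rw [Subgroup.zpowers_le]; exact hS _ hb
      exact h2 a.right.2
    show (a * b).left ∈ S
    rw [SemidirectProduct.mul_left]
    change a.left * (a.right : MulAut G) b.left ∈ S
    rw [h1]
    exact S.mul_mem ha hb
  one_mem' := S.one_mem
  inv_mem' := by
    intro a ha
    show a⁻¹.left ∈ S
    rw [SemidirectProduct.inv_left]
    have h2 : Subgroup.zpowers φ ≤ MulAction.stabilizer (MulAut G) a.left⁻¹ := by
      rw [Subgroup.zpowers_le]; exact hS _ (S.inv_mem ha)
    have h3 : ((a.right⁻¹ : Subgroup.zpowers φ) : MulAut G) a.left⁻¹ = a.left⁻¹ := h2 (a.right⁻¹).2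
    change ((a.right⁻¹ : Subgroup.zpowers φ) : MulAut G) a.left⁻¹ ∈ S
    rw [h3]
    exact S.inv_mem ha

omit [Finite G] in
theorem mem_prodSub (S : Subgroup G) (φ : MulAut G) (hS : ∀ s ∈ S, φ s = s) (y : SD φ) :
    y ∈ prodSub S φ hS ↔ y.left ∈ S := Iff.rfl

omit [Finite G] in
theorem zpowers_apply (S : Subgroup G) (φ : MulAut G) (hS : ∀ s ∈ S, φ s = s)
    (a : Subgroup.zpowers φ) (s : G) (hs : s ∈ S) : (a : MulAut G) s = s := by
  have h2 : Subgroup.zpowers φ ≤ MulAction.stabilizer (MulAut G) s := by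
    rw [Subgroup.zpowers_le]; exact hS _ hs
  exact h2 a.2

/-- `S × ⟨φ⟩` as a product. -/
def prodSubEquiv (S : Subgroup G) (φ : MulAut G) (hS : ∀ s ∈ S, φ s = s) :
    prodSub S φ hS ≃* S × Subgroup.zpowers φ where
  toFun y := (⟨(y : SD φ).left, y.2⟩, (y : SD φ).right)
  invFun z := ⟨⟨z.1, z.2⟩, z.1.2⟩
  left_inv y := rfl
  right_inv z := rfl
  map_mul' a b := by
    refine Prod.ext (Subtype.ext ?_) rfl
    change (a : SD φ).left * ((a : SD φ).right : MulAut G) (b : SD φ).left = _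
    rw [zpowers_apply S φ hS _ _ b.2]
    rfl

theorem exists_sylow {p : ℕ} [hp : Fact p.Prime] (S : Sylow p G) (φ : MulAut G)
    (hS : ∀ s ∈ S, φ s = s) (hφ : IsPGroup p (Subgroup.zpowers φ)) :
    ∃ P : Sylow p (SD φ), ∀ y : SD φ, y ∈ P ↔ y.left ∈ S := by
  have := finite_SD φ
  have h1 : IsPGroup p (prodSub (S : Subgroup G) φ hS) := by
    refine IsPGroup.of_equiv ?_ (prodSubEquiv (S : Subgroup G) φ hS).symm
    obtain ⟨a, ha⟩ := IsPGroup.iff_card.mp S.isPGroup'
    obtain ⟨b, hb⟩ := IsPGroup.iff_card.mp hφ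
    refine IsPGroup.of_card (n := a + b) ?_
    rw [Nat.card_prod, ha, hb, pow_add]
  have h2 : (prodSub (S : Subgroup G) φ hS).index = (S : Subgroup G).index := by
    have h3 := (prodSub (S : Subgroup G) φ hS).card_mul_index
    have h4 : Nat.card (SD φ) = Nat.card G * Nat.card (Subgroup.zpowers φ) := by
      rw [← Nat.card_prod]; exact Nat.card_congr SemidirectProduct.equivProd
    have h5 : Nat.card (prodSub (S : Subgroup G) φ hS) =
        Nat.card (S : Subgroup G) * Nat.card (Subgroup.zpowers φ) := by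
      rw [← Nat.card_prod]; exact Nat.card_congr (prodSubEquiv (S : Subgroup G) φ hS).toEquiv
    have h6 := (S : Subgroup G).card_mul_index
    rw [h4, h5, ← h6] at h3
    have h7 : 0 < Nat.card (S : Subgroup G) * Nat.card (Subgroup.zpowers φ) :=
      Nat.mul_pos Nat.card_pos Nat.card_pos
    apply Nat.eq_of_mul_eq_mul_left h7
    rw [h3]; ring
  refine ⟨h1.toSylow ?_, fun y => Iff.rfl⟩
  rw [h2]
  exact S.not_dvd_index

/-- The main result on automorphisms in the derived group: `φ` is isolated in `S × ⟨φ⟩`. -/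
theorem isolated {p : ℕ} [hp : Fact p.Prime] (S : Sylow p G) (C : Subgroup (MulAut G))
    (hC : ∀ φ ∈ C, ∀ s ∈ S, φ s = s) (ψ : MulAut G) (hψ : ψ ∈ C)
    (hψ' : (⟨ψ, hψ⟩ : C) ∈ commutator C) (P : Sylow p (SD ψ))
    (hP : ∀ y : SD ψ, y ∈ P ↔ y.left ∈ S) (h : SD ψ)
    (hh : h * sx ψ * h⁻¹ ∈ P) : h * sx ψ * h⁻¹ = sx ψ := by
  have := finite_SD ψ
  by_contra hne
  have hS : ∀ s ∈ S, ψ s = s := hC _ hψ
  let x : SD ψ := sx ψ
  have hxP : x ∈ P := (hP x).mpr (S : Subgroup G).one_mem
  have hxZ : ∀ y ∈ P, x * y = y * x := by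
    intro y hy
    have hy' := (hP y).mp hy
    apply SemidirectProduct.ext
    · rw [SemidirectProduct.mul_left, SemidirectProduct.mul_left]
      change 1 * ψ y.left = y.left * (y.right : MulAut G) 1
      rw [hS _ hy', map_one, one_mul, mul_one]
    · rw [SemidirectProduct.mul_right, SemidirectProduct.mul_right]
      exact (Subgroup.zpowers_isMulCommutative ψ).is_comm.comm _ _
  let G' : Subgroup (SD ψ) := (SemidirectProduct.rightHom : SD ψ →* Subgroup.zpowers ψ).ker
  have hmemG' : ∀ y : SD ψ, y ∈ G' ↔ y.right = 1 := fun y => Iff.rfl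
  have hG : ∀ y : SD ψ, ∃ k : ℤ, y * x ^ k ∈ G' := by
    intro y
    obtain ⟨j, hj⟩ := y.right.2
    refine ⟨-j, ?_⟩
    rw [hmemG', SemidirectProduct.mul_right]
    have h1 : (x ^ (-j)).right = (⟨ψ, Subgroup.mem_zpowers ψ⟩ : Subgroup.zpowers ψ) ^ (-j) := by
      change SemidirectProduct.rightHom (x ^ (-j)) = _
      rw [map_zpow]
      rfl
    rw [h1, zpow_neg, mul_inv_eq_one]
    apply Subtype.ext
    rw [Subgroup.coe_zpow]
    exact hj.symm
  obtain ⟨y, g, Q, hyP, hyx, hgG, hgy, hQG, hQP, hgQ, hcent⟩ :=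
    RigidFusion.exists_centric P G' inferInstance x hxP hxZ hG ⟨h, hh, hne⟩
  -- translate to `G`
  have hg : g = SemidirectProduct.inl g.left := by
    apply SemidirectProduct.ext
    · rfl
    · exact (hmemG' g).mp hgG
  set g₀ := g.left with hg₀
  have hy : y = SemidirectProduct.inl (g₀⁻¹ * ψ g₀) * x := by
    have h1 : y = g⁻¹ * x * g := by rw [← hgy]; group
    rw [h1, hg, ← map_inv]
    apply SemidirectProduct.ext
    · simp [x]
    · simp [x]
  have hyl : y.left = g₀⁻¹ * ψ g₀ := by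
    rw [hy]; simp [x]
  have hs : g₀⁻¹ * ψ g₀ ∈ S := by rw [← hyl]; exact (hP y).mp hyP
  have key := apply_eq_of_mem_commutator S C hC (Q.comap SemidirectProduct.inl) ?_ g₀ ?_ ?_ ⟨ψ, hψ⟩ hψ' hs
  · apply hyx
    have : g₀⁻¹ * ψ g₀ = 1 := by
      change ψ g₀ = g₀ at key
      rw [key, inv_mul_cancel]
    rw [hy, this, map_one, one_mul]
  · intro q hq
    have := (hP _).mp (hQP hq)
    exact this
  · intro q hq
    have h1 := (hP _).mp (hgQ _ hq)
    rw [hg] at h1
    rw [← map_mul, ← map_inv, ← map_mul] at h1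
    simpa using h1
  · intro e he hep
    apply hcent
    · rw [hmemG']; rfl
    · intro q hq
      have hq1 : q = SemidirectProduct.inl q.left := by
        apply SemidirectProduct.ext
        · rfl
        · exact (hmemG' q).mp (hQG hq)
      rw [hq1, ← map_mul, ← map_mul, he q.left (by rw [Subgroup.mem_comap, ← hq1]; exact hq)]
    · obtain ⟨n, hn⟩ := hep
      exact ⟨n, by rw [← map_pow, hn, map_one]⟩

end Semidirect

end Cfsg.Agent.Involutions.RigidAut
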