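import Mathlib

/-! Fusion of involutions in a group with a Klein four Sylow 2-subgroup. -/

set_option autoImplicit false

namespace Cfsg.Agent.Involutions.KleinFourSylow

variable {G : Type*} [Group G]

/-- The set of involution classes. -/
abbrev InvClass (G : Type*) [Group G] :=
  {C : ConjClasses G // ∃ t : G, orderOf t = 2 ∧ ConjClasses.mk t = C}

section abelian

variable [Finite G] (p : ℕ) [Fact p.Prime] (P : Sylow p G)

/-- Burnside fusion in the abelian Sylow case. -/
theorem exists_normalizer_conj (hP : ∀ a ∈ P, ∀ b ∈ P, a * b = b * a) {a b : G} (ha : a ∈ P)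
    (hb : b ∈ P) (h : IsConj a b) : ∃ n ∈ Subgroup.normalizer (P : Set G), n * a * n⁻¹ = b := by
  obtain ⟨c, hc⟩ := isConj_iff.1 h
  have hcomm : IsMulCommutative P := ⟨⟨fun x y => Subtype.ext (hP x x.2 y y.2)⟩⟩
  obtain ⟨n, hn, hn2⟩ := P.conj_eq_normalizer_conj_of_mem a c⁻¹ ha (by simpa [hc] using hb)
  refine ⟨n⁻¹, inv_mem hn, ?_⟩
  rw [inv_inv, ← hn2, inv_inv, hc]

end abelian

section klein

set_option linter.unusedSectionVars false

variable [Finite G] (P : Sylow 2 G) (hP : IsKleinFour (P : Subgroup G))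

include hP

theorem comm_of_mem {a b : G} (ha : a ∈ P) (hb : b ∈ P) : a * b = b * a := by
  have := hP.isMulCommutative.is_comm.comm ⟨a, ha⟩ ⟨b, hb⟩
  exact congrArg Subtype.val this

theorem sq_of_mem {a : G} (ha : a ∈ P) : a * a = 1 := by
  have := IsKleinFour.mul_self (G := (P : Subgroup G)) ⟨a, ha⟩
  exact congrArg Subtype.val this

theorem orderOf_of_mem {a : G} (ha : a ∈ P) (h1 : a ≠ 1) : orderOf a = 2 := by
  have := sq_of_mem P hP ha
  exact orderOf_eq_prime (by rw [pow_two, this]) h1

theorem eq_mul {a b c : G} (ha : a ∈ P) (hb : b ∈ P) (hc : c ∈ P) (ha1 : a ≠ 1) (hb1 : b ≠ 1)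
    (hab : a ≠ b) (hc1 : c ≠ 1) (hca : c ≠ a) (hcb : c ≠ b) : c = a * b := by
  have := IsKleinFour.eq_mul_of_ne_all (G := (P : Subgroup G)) (x := ⟨a, ha⟩) (y := ⟨b, hb⟩)
    (z := ⟨c, hc⟩) (by simpa [Subtype.ext_iff] using ha1) (by simpa [Subtype.ext_iff] using hb1)
    (by simpa [Subtype.ext_iff] using hab) (by simpa [Subtype.ext_iff] using hc1)
    (by simpa [Subtype.ext_iff] using hca) (by simpa [Subtype.ext_iff] using hcb)
  exact congrArg Subtype.val this

theorem isConj_mul {a b : G} (ha : a ∈ P) (hb : b ∈ P) (ha1 : a ≠ 1) (hb1 : b ≠ 1)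
    (hab : a ≠ b) (h : IsConj a b) : IsConj a (a * b) := by
  obtain ⟨n, hn, hnab⟩ := exists_normalizer_conj 2 P
    (fun a ha b hb => comm_of_mem P hP ha hb) ha hb h
  have hn' : ∀ x ∈ P, n * x * n⁻¹ ∈ P := fun x hx => (Subgroup.mem_normalizer_iff.1 hn x).1 hx
  have hc : n * b * n⁻¹ ∈ P := hn' b hb
  by_cases hcase : n * b * n⁻¹ = a
  · exfalso
    -- n^2 centralizes P
    have hmem : n ^ ((P : Subgroup G).subgroupOf (Subgroup.normalizer (P : Set G))).index ∈ P := by
      have hnor : ((P : Subgroup G).subgroupOf (Subgroup.normalizer (P : Set G))).Normal :=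
        Subgroup.normal_in_normalizer
      have := Subgroup.pow_index_mem ((P : Subgroup G).subgroupOf (Subgroup.normalizer (P : Set G)))
        ⟨n, hn⟩
      exact this
    have hodd : ¬ 2 ∣ ((P : Subgroup G).subgroupOf (Subgroup.normalizer (P : Set G))).index := by
      intro h2
      exact P.not_dvd_index (h2.trans (Subgroup.relIndex_dvd_index_of_le Subgroup.le_normalizer))
    set k := ((P : Subgroup G).subgroupOf (Subgroup.normalizer (P : Set G))).index with hk
    obtain ⟨j, hj⟩ : ∃ j, k = 2 * j + 1 := by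
      rcases Nat.even_or_odd' k with ⟨j, hj | hj⟩
      · exact absurd ⟨j, hj⟩ hodd
      · exact ⟨j, hj⟩
    have hcn2 : Commute (n ^ 2) a := by
      rw [commute_iff_eq]
      have e1 : n * (n * a * n⁻¹) * n⁻¹ = a := by rw [hnab, hcase]
      calc n ^ 2 * a = (n * (n * a * n⁻¹) * n⁻¹) * n ^ 2 := by simp [pow_two, mul_assoc]
        _ = a * n ^ 2 := by rw [e1]
    have hck : Commute (n ^ k) a := comm_of_mem P hP hmem ha
    have hcn : Commute n a := by
      have e : n = n ^ k * ((n ^ 2) ^ j)⁻¹ := by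
        rw [hj, pow_succ', pow_mul]; group
      rw [e]
      exact hck.mul_left (hcn2.pow_left j).inv_left
    apply hab
    rw [← hnab, hcn.eq]; group
  · have hcb : n * b * n⁻¹ ≠ b := by
      intro h'
      apply hab
      have : n * a * n⁻¹ = n * b * n⁻¹ := by rw [hnab, h']
      simpa using this
    have hc1 : n * b * n⁻¹ ≠ 1 := by
      intro h'
      apply hb1
      simpa [conj_eq_one_iff] using h'
    have := eq_mul P hP ha hb hc ha1 hb1 hab hc1 hcase hcb
    rw [← this]
    exact h.trans (isConj_iff.2 ⟨n, rfl⟩)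

/-- The map from nontrivial elements of P to involution classes. -/
noncomputable def toClass (x : {x : G // x ∈ P ∧ x ≠ 1}) : InvClass G :=
  ⟨ConjClasses.mk x.1, x.1, orderOf_of_mem P hP x.2.1 x.2.2, rfl⟩

theorem toClass_surjective : Function.Surjective (toClass P hP) := by
  rintro ⟨C, t, ht, rfl⟩
  have hpg : IsPGroup 2 (Subgroup.zpowers t) := by
    refine IsPGroup.of_card (n := 1) ?_
    rw [Nat.card_zpowers, ht, pow_one]
  obtain ⟨Q, hQ⟩ := hpg.exists_le_sylow
  obtain ⟨g, rfl⟩ := MulAction.exists_smul_eq G P Q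
  have htQ : t ∈ (g • P : Sylow 2 G) := hQ (Subgroup.mem_zpowers t)
  have ht' : g⁻¹ * t * g ∈ P := by
    have : t ∈ ((g • P : Sylow 2 G) : Set G) := htQ
    rw [Sylow.coe_smul, Set.mem_smul_set_iff_inv_smul_mem] at this
    simpa [MulAut.smul_def, ← map_inv] using this
  refine ⟨⟨g⁻¹ * t * g, ht', ?_⟩, ?_⟩
  · intro h
    have : t = 1 := by
      have h2 : g⁻¹ * t * (g⁻¹)⁻¹ = 1 := by rw [inv_inv]; exact h
      exact conj_eq_one_iff.1 h2
    rw [this, orderOf_one] at ht
    omega
  · apply Subtype.ext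
    show ConjClasses.mk (g⁻¹ * t * g) = ConjClasses.mk t
    rw [ConjClasses.mk_eq_mk_iff_isConj]
    exact isConj_iff.2 ⟨g, by group⟩

theorem card_nontrivial : Nat.card {x : G // x ∈ P ∧ x ≠ 1} = 3 := by
  have h4 : Nat.card (P : Subgroup G) = 4 := hP.card_four
  have e : {x : G // x ∈ P ∧ x ≠ 1} ≃ {x : (P : Subgroup G) // x ≠ 1} :=
    { toFun := fun x => ⟨⟨x.1, x.2.1⟩, fun h => x.2.2 (congrArg Subtype.val h)⟩
      invFun := fun x => ⟨x.1.1, x.1.2, fun h => x.2 (Subtype.ext h)⟩
      left_inv := fun x => rfl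
      right_inv := fun x => rfl }
  rw [Nat.card_congr e]
  classical
  have := Fintype.ofFinite (P : Subgroup G)
  rw [Nat.card_eq_fintype_card, Fintype.card_subtype_compl, Fintype.card_subtype_eq,
    ← Nat.card_eq_fintype_card, h4]

theorem card_eq_three_iff : Nat.card (InvClass G) = 3 ↔ Function.Injective (toClass P hP) := by
  constructor
  · intro h
    have hb : Function.Bijective (toClass P hP) := by
      rw [Nat.bijective_iff_surjective_and_card]
      exact ⟨toClass_surjective P hP, by rw [card_nontrivial P hP, h]⟩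
    exact hb.1
  · intro h
    rw [← Nat.card_eq_of_bijective _ ⟨h, toClass_surjective P hP⟩, card_nontrivial P hP]

theorem card_eq_one_or_three : Nat.card (InvClass G) = 1 ∨ Nat.card (InvClass G) = 3 := by
  by_cases h : Function.Injective (toClass P hP)
  · exact Or.inr ((card_eq_three_iff P hP).2 h)
  · left
    simp only [Function.Injective, not_forall] at h
    obtain ⟨⟨a, ha, ha1⟩, ⟨b, hb, hb1⟩, hab, hne⟩ := h
    have hne' : a ≠ b := fun h => hne (by subst h; rfl)
    have hconj : IsConj a b := by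
      have := congrArg Subtype.val hab
      exact ConjClasses.mk_eq_mk_iff_isConj.1 this
    have hall : ∀ c ∈ P, c ≠ 1 → IsConj a c := by
      intro c hc hc1
      by_cases hca : c = a
      · subst hca; exact IsConj.refl _
      by_cases hcb : c = b
      · subst hcb; exact hconj
      rw [eq_mul P hP ha hb hc ha1 hb1 hne' hc1 hca hcb]
      exact isConj_mul P hP ha hb ha1 hb1 hne' hconj
    rw [Nat.card_eq_one_iff_unique]
    constructor
    · constructor
      intro C D
      obtain ⟨⟨c, hc, hc1⟩, rfl⟩ := toClass_surjective P hP C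
      obtain ⟨⟨d, hd, hd1⟩, rfl⟩ := toClass_surjective P hP D
      apply Subtype.ext
      show ConjClasses.mk c = ConjClasses.mk d
      rw [ConjClasses.mk_eq_mk_iff_isConj]
      exact (hall c hc hc1).symm.trans (hall d hd hd1)
    · exact ⟨toClass P hP ⟨a, ha, ha1⟩⟩

theorem injective_iff_complement : Function.Injective (toClass P hP) ↔
    ∃ N : Subgroup G, N.Normal ∧ Subgroup.IsComplement' N (P : Subgroup G) := by
  constructor
  · intro h
    have hcent : Subgroup.normalizer (P : Set G) ≤ Subgroup.centralizer (P : Set G) := by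
      intro n hn
      rw [Subgroup.mem_centralizer_iff]
      intro a ha
      have ha' : a ∈ P := ha
      have hna : n * a * n⁻¹ ∈ P := (Subgroup.mem_normalizer_iff.1 hn a).1 ha
      by_cases ha1 : a = 1
      · subst ha1; simp
      have hna1 : n * a * n⁻¹ ≠ 1 := by
        intro h'
        apply ha1
        simpa [conj_eq_one_iff] using h'
      have heq : toClass P hP ⟨a, ha', ha1⟩ = toClass P hP ⟨n * a * n⁻¹, hna, hna1⟩ := by
        apply Subtype.ext
        show ConjClasses.mk a = ConjClasses.mk (n * a * n⁻¹)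
        rw [ConjClasses.mk_eq_mk_iff_isConj]
        exact isConj_iff.2 ⟨n, rfl⟩
      have h2 : a = n * a * n⁻¹ := congrArg Subtype.val (h heq)
      calc a * n = (n * a * n⁻¹) * n := by rw [← h2]
        _ = n * a := by group
    exact ⟨_, MonoidHom.normal_ker _, MonoidHom.ker_transferSylow_isComplement' P hcent⟩
  · rintro ⟨N, hN, hNP⟩ ⟨a, ha, ha1⟩ ⟨b, hb, hb1⟩ hab
    have hconj : IsConj a b := by
      have := congrArg Subtype.val hab
      exact ConjClasses.mk_eq_mk_iff_isConj.1 this
    obtain ⟨g, hg⟩ := isConj_iff.1 hconj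
    have hgm : g ∈ (Set.univ : Set G) := Set.mem_univ g
    rw [← hNP.mul_eq] at hgm
    obtain ⟨n, hn, p, hp, rfl⟩ := Set.mem_mul.1 hgm
    have hp' : p ∈ P := hp
    have e1 : n * a * n⁻¹ = b := by
      rw [← hg]
      have : p * a = a * p := comm_of_mem P hP hp' ha
      calc n * a * n⁻¹ = n * (a * p) * p⁻¹ * n⁻¹ := by group
        _ = n * (p * a) * p⁻¹ * n⁻¹ := by rw [this]
        _ = n * p * a * (n * p)⁻¹ := by group
    have e2 : b * a⁻¹ ∈ N := by
      have : b * a⁻¹ = n * (a * n⁻¹ * a⁻¹) := by rw [← e1]; group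
      rw [this]
      exact N.mul_mem hn (hN.conj_mem _ (N.inv_mem hn) a)
    have e3 : b * a⁻¹ ∈ (P : Subgroup G) := mul_mem hb (inv_mem ha)
    have e4 : b * a⁻¹ = 1 := by
      have := hNP.disjoint
      exact Subgroup.disjoint_def.1 this e2 e3
    apply Subtype.ext
    show a = b
    exact (mul_inv_eq_one.1 e4).symm

end klein

end Cfsg.Agent.Involutions.KleinFourSylow
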