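import Mathlib

/-!
# Simple groups with a subgroup of index at most five

Author: helper159.
* `card_dvd_factorial_index` : a simple group with a proper subgroup `H` has order dividing `|G:H|!`.
* `not_comm_simple` : a simple group of even order greater than two is not commutative.
* `card_eq_sixty_of_index_le_five`: nonabelian simple group with a proper subgroup of index at most 5
  embeds onto `A_5`.
-/

set_option autoImplicit false

namespace Cfsg.Agent.Involutions.IndexFive

open Subgroup Nat

/-- The coset action of a simple group on the cosets of a proper subgroup is faithful. -/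
theorem toPermHom_injective {G : Type*} [Group G] [IsSimpleGroup G] (H : Subgroup G)
    (hH : H ≠ ⊤) : Function.Injective (MulAction.toPermHom G (G ⧸ H)) := by
  rw [← MonoidHom.ker_eq_bot_iff, ← Subgroup.normalCore_eq_ker]
  rcases (inferInstance : H.normalCore.Normal).eq_bot_or_eq_top with h | h
  · exact h
  · exact absurd (top_le_iff.1 (h ▸ H.normalCore_le)) hH

/-- A simple group with a proper subgroup `H` of finite index has order dividing `|G:H|!`. -/
theorem card_dvd_factorial_index {G : Type*} [Group G] [Finite G] [IsSimpleGroup G]
    (H : Subgroup G) (hH : H ≠ ⊤) : Nat.card G ∣ H.index ! := by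
  have h1 := Subgroup.card_dvd_of_injective _ (toPermHom_injective H hH)
  rwa [Nat.card_perm, ← Subgroup.index_eq_card] at h1

/-- A simple group of even order greater than `2` is not commutative. -/
theorem not_comm {G : Type*} [Group G] [Finite G] [IsSimpleGroup G]
    (heven : Even (Nat.card G)) (hgt : 2 < Nat.card G) : ¬ ∀ a b : G, a * b = b * a := by
  intro hcomm
  let : CommGroup G := { (inferInstance : Group G) with mul_comm := hcomm }
  have hp : (Nat.card G).Prime := by
    have := (IsSimpleGroup.prime_card (α := G))
    exact this
  have := (Nat.Prime.even_iff hp).1 heven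
  omega

/-- A noncommutative simple group is centreless. -/
theorem center_eq_bot {G : Type*} [Group G] [IsSimpleGroup G]
    (hnc : ¬ ∀ a b : G, a * b = b * a) : Subgroup.center G = ⊥ := by
  rcases (inferInstance : (Subgroup.center G).Normal).eq_bot_or_eq_top with h | h
  · exact h
  · exfalso
    apply hnc
    intro a b
    have : b ∈ Subgroup.center G := h ▸ Subgroup.mem_top b
    exact Subgroup.mem_center_iff.1 this a

/-- A noncommutative simple group has no order among `4, 6, 10, 12`. -/
theorem card_not_small {G : Type*} [Group G] [Finite G] [IsSimpleGroup G]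
    (hnc : ¬ ∀ a b : G, a * b = b * a) :
    Nat.card G ≠ 4 ∧ Nat.card G ≠ 6 ∧ Nat.card G ≠ 10 ∧ Nat.card G ≠ 12 := by
  have key : ∀ (p k : ℕ), p.Prime → p ^ k ∣ Nat.card G → p ^ k ≠ Nat.card G →
      Nat.card G ∣ (Nat.card G / p ^ k) ! := by
    intro p k hp hdvd hne
    have := Fact.mk hp
    obtain ⟨K, hK⟩ := Sylow.exists_subgroup_card_pow_prime p hdvd
    have hKt : K ≠ ⊤ := by
      rintro rfl
      rw [Subgroup.card_top] at hK
      exact hne hK.symm
    have h1 := card_dvd_factorial_index K hKt
    have h2 := K.card_mul_index
    rw [hK] at h2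
    have h3 : Nat.card G / p ^ k = K.index := by
      rw [← h2]
      exact Nat.mul_div_cancel_left _ (pow_pos hp.pos k)
    rw [h3]
    exact h1
  refine ⟨fun h => ?_, fun h => ?_, fun h => ?_, fun h => ?_⟩
  · have := Fact.mk Nat.prime_two
    have hG : IsPGroup 2 G := IsPGroup.of_card (n := 2) (by rw [h]; norm_num)
    have : Nontrivial G := IsSimpleGroup.toNontrivial
    have := hG.center_nontrivial
    rw [center_eq_bot hnc] at this
    exact not_nontrivial _ this
  · have := key 3 1 (by norm_num) (by rw [h]; norm_num) (by rw [h]; norm_num)
    rw [h] at this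
    revert this
    decide
  · have := key 5 1 (by norm_num) (by rw [h]; norm_num) (by rw [h]; norm_num)
    rw [h] at this
    revert this
    decide
  · have := key 2 2 (by norm_num) (by rw [h]; norm_num) (by rw [h]; norm_num)
    rw [h] at this
    revert this
    decide

/-- A simple group of even order `> 2` with a proper subgroup of index at most five is isomorphic
to the alternating group of degree five. -/
theorem nonempty_mulEquiv_alternating_five {G : Type*} [Group G] [Finite G] [IsSimpleGroup G]
    (heven : Even (Nat.card G)) (hgt : 2 < Nat.card G) (H : Subgroup G) (hH : H ≠ ⊤)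
    (hidx : H.index ≤ 5) : Nonempty (G ≃* alternatingGroup (Fin 5)) := by
  classical
  have hnc := not_comm heven hgt
  -- embedding in `S_5`
  have : Fintype (G ⧸ H) := Fintype.ofFinite _
  obtain ⟨e⟩ : Nonempty ((G ⧸ H) ↪ Fin 5) := by
    rw [Function.Embedding.nonempty_iff_card_le, Fintype.card_fin, ← Nat.card_eq_fintype_card,
      ← Subgroup.index_eq_card]
    exact hidx
  let rho : G →* Equiv.Perm (Fin 5) :=
    (Equiv.Perm.viaEmbeddingHom e).comp (MulAction.toPermHom G (G ⧸ H))
  have hrho : Function.Injective rho :=
    (Equiv.Perm.viaEmbeddingHom_injective e).comp (toPermHom_injective H hH)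
  -- the sign is trivial
  have hsign : ∀ g : G, Equiv.Perm.sign (rho g) = 1 := by
    let s : G →* ℤˣ := Equiv.Perm.sign.comp rho
    rcases (inferInstance : s.ker.Normal).eq_bot_or_eq_top with h | h
    · exfalso
      have hs : Function.Injective s := (MonoidHom.ker_eq_bot_iff s).1 h
      have h1 := Nat.card_le_card_of_injective s hs
      have h2 : Nat.card ℤˣ = 2 := by rw [Nat.card_eq_fintype_card]; rfl
      omega
    · intro g
      have : g ∈ s.ker := h ▸ Subgroup.mem_top g
      exact this
  let tau : G →* alternatingGroup (Fin 5) := rho.codRestrict (alternatingGroup (Fin 5))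
    (fun g => Equiv.Perm.mem_alternatingGroup.2 (hsign g))
  have htau : Function.Injective tau := by
    intro a b hab
    apply hrho
    exact congrArg Subtype.val hab
  have hA5 : Nat.card (alternatingGroup (Fin 5)) = 60 := by
    rw [nat_card_alternatingGroup, Nat.card_fin]
    rfl
  have hGrange : Nat.card tau.range = Nat.card G :=
    (Nat.card_congr (MonoidHom.ofInjective htau).toEquiv).symm
  have hsurj : tau.range = ⊤ := by
    by_contra hne
    have h1 := card_dvd_factorial_index tau.range hne
    have h2 := tau.range.card_mul_index
    rw [hA5] at h1 h2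
    rw [hGrange] at h2
    have hj : 5 ≤ tau.range.index := by
      by_contra hlt
      push Not at hlt
      have h3 : tau.range.index ! ∣ 4 ! := Nat.factorial_dvd_factorial (by omega)
      have h4 : 60 ∣ 4 ! := h1.trans h3
      revert h4
      decide
    have hle : Nat.card G ≤ 12 := by
      by_contra hlt
      push Not at hlt
      have : 13 * 5 ≤ Nat.card G * tau.range.index := Nat.mul_le_mul hlt hj
      omega
    obtain ⟨h4, h6, h10, h12⟩ := card_not_small hnc
    have hdvd : Nat.card G ∣ 60 := ⟨_, h2.symm⟩
    generalize Nat.card G = N at *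
    interval_cases N <;> first | (exact absurd rfl (by assumption)) | (revert hdvd; decide) | (revert heven; decide)
  exact ⟨MulEquiv.ofBijective tau ⟨htau, MonoidHom.range_eq_top.1 hsurj⟩⟩

/-- The alternating group of degree five has fifteen involutions. -/
theorem card_involutions_alternating_five :
    Nat.card {t : alternatingGroup (Fin 5) // orderOf t = 2} = 15 := by
  have h1 : Nat.card {t : alternatingGroup (Fin 5) // orderOf t = 2} =
      Nat.card {t : Equiv.Perm (Fin 5) // Equiv.Perm.sign t = 1 ∧ t ^ 2 = 1 ∧ t ≠ 1} := by
    refine Nat.card_congr ⟨fun t => ⟨t.1.1, ?_, ?_, ?_⟩, fun t => ⟨⟨t.1, ?_⟩, ?_⟩, ?_, ?_⟩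
    · exact Equiv.Perm.mem_alternatingGroup.1 t.1.2
    · have := pow_orderOf_eq_one t.1
      rw [t.2] at this
      exact congrArg Subtype.val this
    · intro h
      have h2 : t.1 = 1 := Subtype.ext h
      have h3 := t.2
      rw [h2, orderOf_one] at h3
      omega
    · exact Equiv.Perm.mem_alternatingGroup.2 t.2.1
    · apply orderOf_eq_prime
      · exact Subtype.ext t.2.2.1
      · intro h
        exact t.2.2.2 (congrArg Subtype.val h)
    · intro t; rfl
    · intro t; rfl
  rw [h1, Nat.card_eq_fintype_card]
  decide +kernel

/-- A simple group of even order `> 2` with a proper subgroup of index at most five has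
`3 n < |G|`, where `n` is the number of involutions. -/
theorem three_mul_card_involutions_lt {G : Type*} [Group G] [Finite G] [IsSimpleGroup G]
    (heven : Even (Nat.card G)) (hgt : 2 < Nat.card G) (H : Subgroup G) (hH : H ≠ ⊤)
    (hidx : H.index ≤ 5) : 3 * Nat.card {t : G // orderOf t = 2} < Nat.card G := by
  obtain ⟨e⟩ := nonempty_mulEquiv_alternating_five heven hgt H hH hidx
  have h1 : Nat.card {t : G // orderOf t = 2} =
      Nat.card {t : alternatingGroup (Fin 5) // orderOf t = 2} :=
    Nat.card_congr (e.toEquiv.subtypeEquiv (fun t => by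
      change orderOf t = 2 ↔ orderOf (e t) = 2
      rw [MulEquiv.orderOf_eq]))
  have h2 : Nat.card G = 60 := by
    rw [Nat.card_congr e.toEquiv, nat_card_alternatingGroup, Nat.card_fin]
    rfl
  rw [h1, h2, card_involutions_alternating_five]
  norm_num

end Cfsg.Agent.Involutions.IndexFive
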