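import Mathlib

/-!
# The parity lemma for the quaternion case of the Brauer-Suzuki theorem
-/

set_option autoImplicit false

namespace Cfsg.Agent.Involutions.Q8Parity

theorem zmod_four : ∀ d a b c : ZMod 4, a + b + c = 0 →
    (1 + 2 * (d * a)) + (1 + 2 * (d * b)) + (1 + 2 * (d * c)) = -1 →
    a ^ 2 * ((1 + 2 * (d * b)) * (1 + 2 * (d * c))) + b ^ 2 * ((1 + 2 * (d * a)) * (1 + 2 * (d * c)))
      + c ^ 2 * ((1 + 2 * (d * a)) * (1 + 2 * (d * b))) = 0 →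
    2 * a = 0 ∧ 2 * b = 0 ∧ 2 * c = 0 := by
  decide

theorem even_of_zmod (a : ℤ) (h : 2 * (a : ZMod 4) = 0) : ∃ b, a = 2 * b := by
  have h1 : ((2 * a : ℤ) : ZMod 4) = 0 := by push_cast; exact h
  rw [ZMod.intCast_zmod_eq_zero_iff_dvd] at h1
  obtain ⟨b, hb⟩ := h1
  exact ⟨b, by push_cast at hb; omega⟩

theorem descent (f₁ f₂ f₃ : ℤ) (hf : f₁ + f₂ + f₃ = -1) : ∀ (n : ℕ) (d a b c : ℤ),
    a.natAbs + b.natAbs + c.natAbs ≤ n → a + b + c = 0 →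
    (4 : ℤ) ∣ f₁ - (1 + 2 * (d * a)) → (4 : ℤ) ∣ f₂ - (1 + 2 * (d * b)) →
    (4 : ℤ) ∣ f₃ - (1 + 2 * (d * c)) →
    a ^ 2 * (f₂ * f₃) + b ^ 2 * (f₁ * f₃) + c ^ 2 * (f₁ * f₂) = 0 → a = 0 ∧ b = 0 ∧ c = 0 := by
  intro n
  induction n with
  | zero =>
    intro d a b c h _ _ _ _ _
    omega
  | succ n ih =>
    intro d a b c hn hs h1 h2 h3 hq
    have e1 : (f₁ : ZMod 4) = 1 + 2 * ((d : ZMod 4) * a) := by
      have := (ZMod.intCast_zmod_eq_zero_iff_dvd (f₁ - (1 + 2 * (d * a))) 4).2 (by exact_mod_cast h1)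
      push_cast at this
      linear_combination this
    have e2 : (f₂ : ZMod 4) = 1 + 2 * ((d : ZMod 4) * b) := by
      have := (ZMod.intCast_zmod_eq_zero_iff_dvd (f₂ - (1 + 2 * (d * b))) 4).2 (by exact_mod_cast h2)
      push_cast at this
      linear_combination this
    have e3 : (f₃ : ZMod 4) = 1 + 2 * ((d : ZMod 4) * c) := by
      have := (ZMod.intCast_zmod_eq_zero_iff_dvd (f₃ - (1 + 2 * (d * c))) 4).2 (by exact_mod_cast h3)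
      push_cast at this
      linear_combination this
    have hsz : (a : ZMod 4) + b + c = 0 := by
      have := congrArg (Int.cast : ℤ → ZMod 4) hs
      push_cast at this; exact this
    have hfz : (f₁ : ZMod 4) + f₂ + f₃ = -1 := by
      have := congrArg (Int.cast : ℤ → ZMod 4) hf
      push_cast at this; exact this
    have hqz : (a : ZMod 4) ^ 2 * (f₂ * f₃) + (b : ZMod 4) ^ 2 * (f₁ * f₃) +
        (c : ZMod 4) ^ 2 * (f₁ * f₂) = 0 := by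
      have := congrArg (Int.cast : ℤ → ZMod 4) hq
      push_cast at this; exact this
    rw [e1, e2, e3] at hfz hqz
    obtain ⟨ha, hb, hc⟩ := zmod_four d a b c hsz hfz hqz
    obtain ⟨a', rfl⟩ := even_of_zmod a ha
    obtain ⟨b', rfl⟩ := even_of_zmod b hb
    obtain ⟨c', rfl⟩ := even_of_zmod c hc
    by_cases h0 : a' = 0 ∧ b' = 0 ∧ c' = 0
    · omega
    · have h4 := ih (2 * d) a' b' c' (by omega) (by omega) (by
          have : 2 * d * a' = d * (2 * a') := by ring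
          rw [this]; exact h1) (by
          have : 2 * d * b' = d * (2 * b') := by ring
          rw [this]; exact h2) (by
          have : 2 * d * c' = d * (2 * c') := by ring
          rw [this]; exact h3) (by
          have : 4 * (a' ^ 2 * (f₂ * f₃) + b' ^ 2 * (f₁ * f₃) + c' ^ 2 * (f₁ * f₂)) = 0 := by
            rw [← hq]; ring
          omega)
      exact absurd h4 h0

/-- The parity lemma. -/
theorem parity {f₁ f₂ f₃ g₁ g₂ g₃ : ℤ} (hf : f₁ + f₂ + f₃ = -1) (hg : g₁ + g₂ + g₃ = 0)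
    (h1 : (4 : ℤ) ∣ f₁ - (1 + 2 * g₁)) (h2 : (4 : ℤ) ∣ f₂ - (1 + 2 * g₂))
    (h3 : (4 : ℤ) ∣ f₃ - (1 + 2 * g₃))
    (hq : g₁ ^ 2 * (f₂ * f₃) + g₂ ^ 2 * (f₁ * f₃) + g₃ ^ 2 * (f₁ * f₂) = 0) :
    g₁ = 0 ∧ g₂ = 0 ∧ g₃ = 0 :=
  descent f₁ f₂ f₃ hf _ 1 g₁ g₂ g₃ le_rfl hg (by simpa using h1) (by simpa using h2)
    (by simpa using h3) hq

/-- The final arithmetic in the quaternion case: signed degrees `f i = e i * χ i 1` and signed values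
`h i = e i * χ i z`. Here `e i = ± 1` is the value of `χ i` at the elements of order `4`. -/
theorem final {n₁ n₂ n₃ m₁ m₂ m₃ e₁ e₂ e₃ c₁ c₂ c₃ : ℤ}
    (he1 : e₁ ^ 2 = 1) (he2 : e₂ ^ 2 = 1) (he3 : e₃ ^ 2 = 1)
    (hc1 : n₁ - m₁ = 4 * c₁) (hc2 : n₂ - m₂ = 4 * c₂) (hc3 : n₃ - m₃ = 4 * c₃)
    (hd1 : (8 : ℤ) ∣ n₁ + m₁ + 6 * e₁) (hd2 : (8 : ℤ) ∣ n₂ + m₂ + 6 * e₂)
    (hd3 : (8 : ℤ) ∣ n₃ + m₃ + 6 * e₃)
    (hn1 : n₁ ≠ 0) (hn2 : n₂ ≠ 0) (hn3 : n₃ ≠ 0)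
    (hs1 : 1 + e₁ * n₁ + e₂ * n₂ + e₃ * n₃ = 0) (hs2 : 1 + e₁ * m₁ + e₂ * m₂ + e₃ * m₃ = 0)
    (hs3 : (1 : ℂ) + e₁ * (m₁ : ℂ) ^ 2 / n₁ + e₂ * (m₂ : ℂ) ^ 2 / n₂ + e₃ * (m₃ : ℂ) ^ 2 / n₃ = 0) :
    n₁ = m₁ ∧ n₂ = m₂ ∧ n₃ = m₃ := by
  have hcase : ∀ {e : ℤ}, e ^ 2 = 1 → e = 1 ∨ e = -1 := by
    intro e he
    have : (e - 1) * (e + 1) = 0 := by ring_nf; omega
    rcases mul_eq_zero.1 this with h | h
    · left; omega
    · right; omega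
  have key : e₁ * c₁ = 0 ∧ e₂ * c₂ = 0 ∧ e₃ * c₃ = 0 := by
    apply parity (f₁ := e₁ * n₁) (f₂ := e₂ * n₂) (f₃ := e₃ * n₃)
    · linarith
    · have : e₁ * (n₁ - m₁) + e₂ * (n₂ - m₂) + e₃ * (n₃ - m₃) = 0 := by linarith
      rw [hc1, hc2, hc3] at this
      linarith
    · rcases hcase he1 with rfl | rfl <;> omega
    · rcases hcase he2 with rfl | rfl <;> omega
    · rcases hcase he3 with rfl | rfl <;> omega
    · have hn1' : (n₁ : ℂ) ≠ 0 := by exact_mod_cast hn1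
      have hn2' : (n₂ : ℂ) ≠ 0 := by exact_mod_cast hn2
      have hn3' : (n₃ : ℂ) ≠ 0 := by exact_mod_cast hn3
      field_simp at hs3
      have hs3' : n₁ * n₂ * n₃ + e₁ * m₁ ^ 2 * n₂ * n₃ + e₂ * m₂ ^ 2 * n₁ * n₃ +
          e₃ * m₃ ^ 2 * n₁ * n₂ = 0 := by
        have h : ((n₁ * n₂ * n₃ + e₁ * m₁ ^ 2 * n₂ * n₃ + e₂ * m₂ ^ 2 * n₁ * n₃ +
          e₃ * m₃ ^ 2 * n₁ * n₂ : ℤ) : ℂ) = 0 := by
          push_cast
          linear_combination hs3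
        exact_mod_cast h
      have hm1 : m₁ = n₁ - 4 * c₁ := by linarith
      have hm2 : m₂ = n₂ - 4 * c₂ := by linarith
      have hm3 : m₃ = n₃ - 4 * c₃ := by linarith
      subst hm1 hm2 hm3
      have h16 : 16 * (e₁ * e₂ * e₃) * ((e₁ * c₁) ^ 2 * (e₂ * n₂ * (e₃ * n₃)) +
          (e₂ * c₂) ^ 2 * (e₁ * n₁ * (e₃ * n₃)) + (e₃ * c₃) ^ 2 * (e₁ * n₁ * (e₂ * n₂))) = 0 := by
        rcases hcase he1 with rfl | rfl <;> rcases hcase he2 with rfl | rfl <;>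
          rcases hcase he3 with rfl | rfl <;>
          linear_combination hs3' + (n₁ * n₂ * n₃) * hs1 - 2 * (n₁ * n₂ * n₃) * hs2
      have hne : 16 * (e₁ * e₂ * e₃) ≠ 0 := by
        rcases hcase he1 with rfl | rfl <;> rcases hcase he2 with rfl | rfl <;>
          rcases hcase he3 with rfl | rfl <;> norm_num
      exact (mul_eq_zero.1 h16).resolve_left hne
  obtain ⟨k1, k2, k3⟩ := key
  refine ⟨?_, ?_, ?_⟩
  · rcases hcase he1 with rfl | rfl <;> omega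
  · rcases hcase he2 with rfl | rfl <;> omega
  · rcases hcase he3 with rfl | rfl <;> omega

end Cfsg.Agent.Involutions.Q8Parity
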