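import Mathlib

/-!
A fusion lemma: let `G` be a normal subgroup of the finite group `Y`, `P` a Sylow `p`-subgroup of
`Y`, and `x ∈ Z(P)` with `Y = G⟨x⟩`.  If `x` is conjugate to some other element of `P`, then there
are such an element `y`, an element `g ∈ G` conjugating `y` to `x`, and a `p`-subgroup
`Q ≤ P ∩ G` which is `p`-centric in `G` and conjugated by `g` into `P`.
-/

set_option autoImplicit false

namespace Cfsg.Agent.Involutions.RigidFusion

variable {Y : Type*} [Group Y] [Finite Y] {p : ℕ} [Fact p.Prime]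

/-- Sylow's theorem inside a subgroup containing a Sylow subgroup. -/
theorem exists_conj_le (P : Sylow p Y) (H W : Subgroup Y) (hPH : (P : Subgroup Y) ≤ H)
    (hWH : W ≤ H) (hW : IsPGroup p W) : ∃ h ∈ H, ∀ w ∈ W, h * w * h⁻¹ ∈ P := by
  have hW' : IsPGroup p (W.subgroupOf H) := hW.comap_subtype
  obtain ⟨Q, hQ⟩ := hW'.exists_le_sylow
  obtain ⟨h, hh⟩ := MulAction.exists_smul_eq H Q (P.subtype hPH)
  refine ⟨h, h.2, fun w hw => ?_⟩
  have h1 : (⟨w, hWH hw⟩ : H) ∈ (Q : Subgroup H) := hQ (by simpa [Subgroup.mem_subgroupOf] using hw)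
  have h2 := Subgroup.smul_mem_pointwise_smul _ (MulAut.conj h) (Q : Subgroup H) h1
  have h3 : MulAut.conj h • (⟨w, hWH hw⟩ : H) ∈ ((P.subtype hPH : Sylow p H) : Subgroup H) := by
    rw [← hh]; exact h2
  rw [Sylow.coe_subtype, Subgroup.mem_subgroupOf] at h3
  exact h3

/-- Any `p`-subgroup of the centralizer of a conjugate `y` of `x ∈ Z(P)` can be moved into `P` by an
element conjugating `y` to `x`. -/
theorem exists_conj_le_of_isConj (P : Sylow p Y) (x : Y) (hxZ : ∀ y ∈ P, x * y = y * x) (y : Y)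
    (hxy : IsConj x y) (W : Subgroup Y) (hW : IsPGroup p W) (hWy : ∀ w ∈ W, w * y = y * w) :
    ∃ g : Y, g * y * g⁻¹ = x ∧ ∀ w ∈ W, g * w * g⁻¹ ∈ P := by
  obtain ⟨g₀, hg₀⟩ := isConj_iff.mp hxy.symm
  have hPx : (P : Subgroup Y) ≤ Subgroup.centralizer ({x} : Set Y) := by
    intro y hy
    rw [Subgroup.mem_centralizer_singleton_iff]
    exact (hxZ y hy).symm
  have hW' : IsPGroup p (W.map (MulAut.conj g₀).toMonoidHom) := hW.map _
  have hW'x : W.map (MulAut.conj g₀).toMonoidHom ≤ Subgroup.centralizer ({x} : Set Y) := by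
    rintro _ ⟨w, hw, rfl⟩
    rw [Subgroup.mem_centralizer_singleton_iff, ← hg₀]
    have := hWy w hw
    calc (MulAut.conj g₀) w * (g₀ * y * g₀⁻¹) = g₀ * (w * y) * g₀⁻¹ := by simp [mul_assoc]
      _ = g₀ * (y * w) * g₀⁻¹ := by rw [this]
      _ = g₀ * y * g₀⁻¹ * (MulAut.conj g₀) w := by simp [mul_assoc]
  obtain ⟨c, hc, hcW⟩ := exists_conj_le P _ _ hPx hW'x hW'
  rw [Subgroup.mem_centralizer_singleton_iff] at hc
  refine ⟨c * g₀, ?_, fun w hw => ?_⟩
  · calc c * g₀ * y * (c * g₀)⁻¹ = c * (g₀ * y * g₀⁻¹) * c⁻¹ := by group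
      _ = x := by rw [hg₀, hc, mul_inv_cancel_right]
  · have := hcW (g₀ * w * g₀⁻¹) ⟨w, hw, by simp⟩
    simpa [mul_assoc] using this

/-- The fusion lemma. -/
theorem exists_centric (P : Sylow p Y) (G : Subgroup Y) (hGn : G.Normal) (x : Y) (hxP : x ∈ P)
    (hxZ : ∀ y ∈ P, x * y = y * x) (hG : ∀ y : Y, ∃ k : ℤ, y * x ^ k ∈ G)
    (hni : ∃ g : Y, g * x * g⁻¹ ∈ P ∧ g * x * g⁻¹ ≠ x) :
    ∃ (y g : Y) (Q : Subgroup Y), y ∈ P ∧ y ≠ x ∧ g ∈ G ∧ g * y * g⁻¹ = x ∧ Q ≤ G ∧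
      (Q : Subgroup Y) ≤ P ∧ (∀ q ∈ Q, g * q * g⁻¹ ∈ P) ∧
      ∀ e ∈ G, (∀ q ∈ Q, e * q = q * e) → (∃ n : ℕ, e ^ p ^ n = 1) → e ∈ Q := by
  classical
  -- choose `y` with the largest centralizer in `P`
  let 𝒴 : Set Y := {y | y ∈ P ∧ IsConj x y ∧ y ≠ x}
  have hne : 𝒴.Nonempty := by
    obtain ⟨g, hg, hg'⟩ := hni
    exact ⟨g * x * g⁻¹, hg, isConj_iff.mpr ⟨g, rfl⟩, hg'⟩
  obtain ⟨y, ⟨hyP, hxy, hyx⟩, hmax⟩ := Set.exists_max_image 𝒴
    (fun y => Nat.card ((P : Subgroup Y) ⊓ Subgroup.centralizer ({y} : Set Y) : Subgroup Y))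
    (Set.toFinite _) hne
  set R : Subgroup Y := (P : Subgroup Y) ⊓ Subgroup.centralizer ({y} : Set Y) with hR
  have hRmem : ∀ r, r ∈ R ↔ r ∈ P ∧ r * y = y * r := by
    intro r
    rw [hR, Subgroup.mem_inf, Subgroup.mem_centralizer_singleton_iff]
    rfl
  have hRP : R ≤ P := inf_le_left
  have hRp : IsPGroup p R := P.isPGroup'.to_le hRP
  have hxR : x ∈ R := (hRmem x).mpr ⟨hxP, hxZ y hyP⟩
  have hyR : y ∈ R := (hRmem y).mpr ⟨hyP, rfl⟩
  -- joins with commuting `p`-subgroups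
  have hjoin : ∀ F K : Subgroup Y, IsPGroup p F → IsPGroup p K →
      (∀ f ∈ F, ∀ r ∈ K, f * r = r * f) → IsPGroup p (F ⊔ K : Subgroup Y) := by
    intro F K hF hK hFK
    have hFN : F ≤ Subgroup.normalizer (K : Set Y) := by
      refine le_trans ?_ (Subgroup.centralizer_le_normalizer (K : Set Y))
      intro f hf
      rw [Subgroup.mem_centralizer_iff]
      intro r hr
      exact (hFK f hf r hr).symm
    exact hF.to_sup_of_normal_right' hK hFN
  -- step a
  have stepa : ∀ F : Subgroup Y, IsPGroup p F → (∀ f ∈ F, ∀ r ∈ R, f * r = r * f) → F ≤ R := by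
    intro F hF hFR
    have hW : IsPGroup p (F ⊔ R : Subgroup Y) := hjoin F R hF hRp hFR
    have hWc : ∀ z ∈ R, (∀ r ∈ R, r * z = z * r) → ∀ w ∈ F ⊔ R, w * z = z * w := by
      intro z hz hzR w hw
      have : F ⊔ R ≤ Subgroup.centralizer ({z} : Set Y) := by
        apply sup_le
        · intro f hf
          rw [Subgroup.mem_centralizer_singleton_iff]
          exact hFR f hf z hz
        · intro r hr
          rw [Subgroup.mem_centralizer_singleton_iff]
          exact hzR r hr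
      exact Subgroup.mem_centralizer_singleton_iff.mp (this hw)
    have hyW := hWc y hyR (fun r hr => ((hRmem r).mp hr).2)
    have hxW := hWc x hxR (fun r hr => (hxZ r (hRP hr)).symm)
    obtain ⟨g, hgy, hgW⟩ := exists_conj_le_of_isConj P x hxZ y hxy _ hW hyW
    have hw : g * x * g⁻¹ ∈ 𝒴 := by
      refine ⟨hgW x (Subgroup.mem_sup_right hxR), isConj_iff.mpr ⟨g, rfl⟩, ?_⟩
      intro h
      have h6 : g * x * g⁻¹ = g * y * g⁻¹ := by rw [h, hgy]
      exact hyx (mul_left_cancel (mul_right_cancel h6)).symm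
    have h1 := hmax _ hw
    have h2 : Nat.card (F ⊔ R : Subgroup Y) ≤ Nat.card R := by
      refine le_trans ?_ h1
      have h3 : (F ⊔ R : Subgroup Y).map (MulAut.conj g).toMonoidHom ≤
          (P : Subgroup Y) ⊓ Subgroup.centralizer ({g * x * g⁻¹} : Set Y) := by
        rintro _ ⟨w, hw, rfl⟩
        refine ⟨by simpa using hgW w hw, ?_⟩
        refine Subgroup.mem_centralizer_singleton_iff.mpr ?_
        have := hxW w hw
        calc (MulAut.conj g) w * (g * x * g⁻¹) = g * (w * x) * g⁻¹ := by simp [mul_assoc]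
          _ = g * (x * w) * g⁻¹ := by rw [this]
          _ = g * x * g⁻¹ * (MulAut.conj g) w := by simp [mul_assoc]
      have h4 := Subgroup.card_le_of_le h3
      rwa [Subgroup.card_map_of_injective (MulAut.conj g).injective] at h4
    have h7 : R = F ⊔ R := Subgroup.eq_of_le_of_card_ge le_sup_right h2
    rw [h7]
    exact le_sup_left
  -- elements of `Y` modulo `G`
  have hmodG : ∀ h : Y, h⁻¹ * x * h * x⁻¹ ∈ G := by
    intro h
    obtain ⟨k, hk⟩ := hG h
    -- h = c x^{-k}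
    set c := h * x ^ k with hc
    have hh : h = c * x ^ (-k) := by rw [hc]; group
    have h1 : h⁻¹ * x * h * x⁻¹ = x ^ k * (c⁻¹ * (x * c * x⁻¹)) * (x ^ k)⁻¹ := by
      rw [hh]; group
    rw [h1]
    exact hGn.conj_mem _ (G.mul_mem (G.inv_mem hk) (hGn.conj_mem _ hk x)) _
  -- step b
  set Q := R ⊓ G with hQ
  have hRQ : ∀ r ∈ R, ∃ k : ℤ, r * x ^ k ∈ Q := by
    intro r hr
    obtain ⟨k, hk⟩ := hG r
    exact ⟨k, R.mul_mem hr (R.zpow_mem hxR k), hk⟩
  have hQp : IsPGroup p Q := hRp.to_le inf_le_left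
  have stepb : ∀ E : Subgroup Y, IsPGroup p E → (∀ e ∈ E, ∀ q ∈ Q, e * q = q * e) → x ∈ E →
      E ≤ R := by
    intro E hE hEQ hxE
    have hEQp : IsPGroup p (E ⊔ Q : Subgroup Y) := hjoin E Q hE hQp hEQ
    obtain ⟨h, -, hh⟩ := exists_conj_le P ⊤ (E ⊔ Q) le_top le_top hEQp
    -- `x' = h⁻¹ x h` centralizes `E` and `Q`
    have hx' : ∀ w ∈ E ⊔ Q, (h⁻¹ * x * h) * w = w * (h⁻¹ * x * h) := by
      intro w hw
      have h1 := hxZ _ (hh w hw)
      calc (h⁻¹ * x * h) * w = h⁻¹ * (x * (h * w * h⁻¹)) * h := by group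
        _ = h⁻¹ * ((h * w * h⁻¹) * x) * h := by rw [h1]
        _ = w * (h⁻¹ * x * h) := by group
    have hRle : R ≤ E ⊔ Q := by
      intro r hr
      obtain ⟨k, hk⟩ := hRQ r hr
      have h2 : r = r * x ^ k * (x ^ k)⁻¹ := by group
      rw [h2]
      exact Subgroup.mul_mem _ (Subgroup.mem_sup_right hk)
        (Subgroup.inv_mem _ (Subgroup.zpow_mem _ (Subgroup.mem_sup_left hxE) k))
    have hxp : IsPGroup p (Subgroup.zpowers (h⁻¹ * x * h)) := by
      have h3 : IsPGroup p (Subgroup.zpowers x) :=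
        P.isPGroup'.to_le (Subgroup.zpowers_le.mpr hxP)
      have h4 := h3.map (MulAut.conj h⁻¹).toMonoidHom
      rw [MonoidHom.map_zpowers] at h4
      have h4' : (MulAut.conj h⁻¹).toMonoidHom x = h⁻¹ * x * h := by simp
      rwa [h4'] at h4
    have h5 : Subgroup.zpowers (h⁻¹ * x * h) ≤ R := by
      apply stepa _ hxp
      intro f hf r hr
      have h6 : Subgroup.zpowers (h⁻¹ * x * h) ≤ Subgroup.centralizer ({r} : Set Y) := by
        rw [Subgroup.zpowers_le, Subgroup.mem_centralizer_singleton_iff]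
        exact hx' r (hRle hr)
      exact Subgroup.mem_centralizer_singleton_iff.mp (h6 hf)
    have h7 : h⁻¹ * x * h * x⁻¹ ∈ Q :=
      ⟨R.mul_mem (h5 (Subgroup.mem_zpowers _)) (R.inv_mem hxR), hmodG h⟩
    apply stepa E hE
    intro e he r hr
    have hex : e * x = x * e := by
      have h8 := hEQ e he _ h7
      have h9 := hx' e (Subgroup.mem_sup_left he)
      set q := h⁻¹ * x * h * x⁻¹ with hq
      have h10 : h⁻¹ * x * h = q * x := by rw [hq]; group
      rw [h10] at h9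
      have h11 : q * (x * e) = q * (e * x) := by
        calc q * (x * e) = q * x * e := by group
          _ = e * (q * x) := h9
          _ = e * q * x := by group
          _ = q * e * x := by rw [h8]
          _ = q * (e * x) := by group
      exact (mul_left_cancel h11).symm
    obtain ⟨k, hk⟩ := hRQ r hr
    have h12 := hEQ e he _ hk
    have h13 : Commute e (x ^ k) := Commute.zpow_right hex k
    have h14 : Commute e (r * x ^ k) := h12
    have h15 : Commute e (r * x ^ k * (x ^ k)⁻¹) := h14.mul_right h13.inv_right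
    rw [mul_inv_cancel_right] at h15
    exact h15
  -- `p`-elements of `C_G(Q)` lie in `Q`
  have hcentric : ∀ e ∈ G, (∀ q ∈ Q, e * q = q * e) → (∃ n : ℕ, e ^ p ^ n = 1) → e ∈ Q := by
    intro e heG heQ ⟨n, hn⟩
    set D : Subgroup Y := Subgroup.centralizer (Q : Set Y) with hD
    have hmemD : ∀ d, d ∈ D ↔ ∀ q ∈ Q, d * q = q * d := by
      intro d
      rw [hD, Subgroup.mem_centralizer_iff]
      exact ⟨fun h q hq => (h q hq).symm, fun h q hq => (h q hq).symm⟩
    have hxD : x ∈ D := (hmemD x).mpr (fun q hq => hxZ q (hRP hq.1))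
    have heD : e ∈ D := (hmemD e).mpr heQ
    have hxp : IsPGroup p ((Subgroup.zpowers x).subgroupOf D) :=
      (P.isPGroup'.to_le (Subgroup.zpowers_le.mpr hxP)).comap_subtype
    have hep : IsPGroup p ((Subgroup.zpowers e).subgroupOf D) := by
      refine IsPGroup.comap_subtype (IsPGroup.of_card_dvd_pow (n := n) ?_)
      rw [Nat.card_zpowers]
      exact orderOf_dvd_of_pow_eq_one hn
    obtain ⟨E₁, hE₁⟩ := hxp.exists_le_sylow
    obtain ⟨E₂, hE₂⟩ := hep.exists_le_sylow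
    obtain ⟨c, hc⟩ := MulAction.exists_smul_eq D E₂ E₁
    have hxE₁ : (⟨x, hxD⟩ : D) ∈ (E₁ : Subgroup D) :=
      hE₁ (Subgroup.mem_subgroupOf.mpr (Subgroup.mem_zpowers _))
    have heE₂ : (⟨e, heD⟩ : D) ∈ (E₂ : Subgroup D) :=
      hE₂ (Subgroup.mem_subgroupOf.mpr (Subgroup.mem_zpowers _))
    have hE₁R : (E₁ : Subgroup D).map D.subtype ≤ R := by
      apply stepb _ (E₁.isPGroup'.map _)
      · rintro _ ⟨d, -, rfl⟩ q hq
        exact (hmemD _).mp d.2 q hq
      · exact ⟨_, hxE₁, rfl⟩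
    have h1 : MulAut.conj c • (⟨e, heD⟩ : D) ∈ (E₁ : Subgroup D) := by
      rw [← hc]
      exact Subgroup.smul_mem_pointwise_smul _ (MulAut.conj c) (E₂ : Subgroup D) heE₂
    have h2 : (c : Y) * e * (c : Y)⁻¹ ∈ R := hE₁R ⟨_, h1, rfl⟩
    have h3 : (c : Y) * e * (c : Y)⁻¹ ∈ Q := ⟨h2, hGn.conj_mem _ heG _⟩
    have h4 := (hmemD _).mp c.2 _ h3
    have h5 : (c : Y) * e * (c : Y)⁻¹ = e := by
      have h6 : (c : Y) * ((c : Y) * e * (c : Y)⁻¹) = (c : Y) * e := by
        rw [h4]; group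
      exact mul_left_cancel h6
    rwa [h5] at h3
  -- step c
  obtain ⟨g, hgy, hgR⟩ := exists_conj_le_of_isConj P x hxZ y hxy R hRp (fun r hr => ((hRmem r).mp hr).2)
  obtain ⟨k, hk⟩ := hG g
  have hk' : x ^ k * g ∈ G := by
    have := hGn.conj_mem _ hk (x ^ k)
    have h1 : x ^ k * (g * x ^ k) * (x ^ k)⁻¹ = x ^ k * g := by group
    rwa [h1] at this
  refine ⟨y, x ^ k * g, Q, hyP, hyx, hk', ?_, inf_le_right, inf_le_left.trans hRP, ?_, hcentric⟩
  · calc x ^ k * g * y * (x ^ k * g)⁻¹ = x ^ k * (g * y * g⁻¹) * (x ^ k)⁻¹ := by group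
      _ = x := by rw [hgy]; group
  · intro q hq
    have h1 := hgR q hq.1
    have h2 : x ^ k * g * q * (x ^ k * g)⁻¹ = x ^ k * (g * q * g⁻¹) * (x ^ k)⁻¹ := by group
    rw [h2]
    exact P.mul_mem (P.mul_mem (P.zpow_mem hxP k) h1) (P.inv_mem (P.zpow_mem hxP k))

end Cfsg.Agent.Involutions.RigidFusion
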